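import Cfsg.Agent.Lib.Fus.Powell.Gen

/-!
An abelian minimal normal subgroup with a coprime section above it: all proper supplements are
conjugate normalizers, so two lifts can be chosen to generate.
-/

set_option autoImplicit false
set_option linter.style.haveILetI false
set_option linter.unusedSectionVars false

namespace Cfsg.Agent.Fus.Powell

open Subgroup
open scoped Pointwise

variable {G : Type*} [Group G] [Finite G] {p : ℕ} [hp : Fact p.Prime] {b : Bool} {N R Q : Subgroup G}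

/-- A coprime section `R / N` with both parts. -/
structure Layer (p : ℕ) (b : Bool) (N R : Subgroup G) : Prop where
  normalN : N.Normal
  normalR : R.Normal
  le : N ≤ R
  isB : IsB p (!b) N
  img : ∀ x ∈ R, ∀ v ∈ zpowers x, El p (!b) v → v ∈ N

theorem Layer.mk' [hN : N.Normal] (hR : R.Normal) (hle : N ≤ R) (h : IsB p (!b) N)
    (himg : IsB p b (R.map (QuotientGroup.mk' N))) : Layer p b N R :=
  ⟨hN, hR, hle, h, fun x hx v hv hvb => (QuotientGroup.eq_one_iff v).1
    (el_both (b := b) (himg _ ⟨v, zpowers_le.2 hx hv, rfl⟩) (el_map (QuotientGroup.mk' N) hvb))⟩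

theorem Layer.isB_of_inf (L : Layer p b N R) (hQ : Q ≤ R) (hd : Q ⊓ N = ⊥) : IsB p b Q := by
  intro x hx
  obtain ⟨u, v, hu, hv, h1, h2, h3⟩ := split (p := p) b x
  have : v = 1 := mem_bot.1 (hd ▸ ⟨zpowers_le.2 hx hv, L.img x (hQ hx) v hv h2⟩)
  rw [h3, this, mul_one]
  exact h1

theorem Layer.card_eq (L : Layer p b N R) (hQ : IsB p b Q) (hQR : Q ≤ R) (hRQ : R ≤ Q ⊔ N) :
    Nat.card Q = N.relIndex R := by
  haveI := L.normalN
  have h1 : Q.map (QuotientGroup.mk' N) = R.map (QuotientGroup.mk' N) := by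
    refine le_antisymm (map_mono hQR) ((map_mono hRQ).trans ?_)
    rw [Subgroup.map_sup, (map_eq_bot_iff N).2 (by rw [QuotientGroup.ker_mk']), sup_bot_eq]
  have h2 := Subgroup.relIndex_ker Q (QuotientGroup.mk' N)
  have h3 := Subgroup.relIndex_ker R (QuotientGroup.mk' N)
  rw [QuotientGroup.ker_mk'] at h2 h3
  rw [h1, ← h3] at h2
  rw [← h2, ← inf_relIndex_right, inf_comm, isB_disjoint hQ L.isB, relIndex_bot_left]

theorem Layer.coprime (L : Layer p b N R) : (Nat.card N).Coprime (N.relIndex R) := by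
  haveI := L.normalN
  have h3 := Subgroup.relIndex_ker R (QuotientGroup.mk' N)
  rw [QuotientGroup.ker_mk'] at h3
  rw [h3]
  have hb : IsB p b (R.map (QuotientGroup.mk' N)) := by
    rintro _ ⟨x, hx, rfl⟩
    obtain ⟨u, v, hu, hv, h1, h2, h3⟩ := split (p := p) b x
    have hv1 : QuotientGroup.mk' N v = 1 := (QuotientGroup.eq_one_iff v).2 (L.img x hx v hv h2)
    rw [h3, map_mul, hv1, mul_one]
    exact el_map _ h1
  have hN := L.isB
  revert hb hN
  cases b with
  | true =>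
    intro hb hN
    obtain ⟨k, hk⟩ := IsPGroup.iff_card.1 (isB_iff_pGroup.1 hb)
    rw [hk]
    exact (coprime_of_isB hN).pow_right k
  | false =>
    intro hb hN
    obtain ⟨k, hk⟩ := IsPGroup.iff_card.1 (isB_iff_pGroup.1 hN)
    rw [hk]
    exact ((coprime_of_isB hb).symm).pow_left k

theorem Layer.exists_complement (L : Layer p b N R) :
    ∃ Q, IsB p b Q ∧ Q ≤ R ∧ R ≤ Q ⊔ N := by
  haveI := L.normalN
  haveI : (N.subgroupOf R).Normal := L.normalN.subgroupOf R
  obtain ⟨K, hK⟩ := Subgroup.exists_right_complement'_of_coprime (N := N.subgroupOf R) (by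
    rw [Nat.card_congr (subgroupOfEquivOfLe L.le).toEquiv]
    exact L.coprime)
  refine ⟨K.map R.subtype, L.isB_of_inf (map_subtype_le _) ?_, map_subtype_le _, ?_⟩
  · refine (eq_bot_iff_forall _).2 ?_
    rintro _ ⟨⟨k, hk, rfl⟩, hN⟩
    have : k ∈ N.subgroupOf R ⊓ K := ⟨hN, hk⟩
    rw [hK.disjoint.eq_bot, mem_bot] at this
    rw [this]; rfl
  · intro x hx
    have h : (⟨x, hx⟩ : ↥R) ∈ K ⊔ N.subgroupOf R := by rw [sup_comm, hK.sup_eq_top]; exact mem_top _
    have h' := mem_map_of_mem R.subtype h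
    rw [Subgroup.map_sup] at h'
    exact sup_le le_sup_left ((map_le_iff_le_comap.2 fun y hy => mem_sup_right hy)) h'

/-- Complements are conjugate under `N`, when `N` is abelian or of order prime to p. -/
theorem Layer.conj (L : Layer p b N R) (hor : b = true ∨ IsMulCommutative N) {Q' : Subgroup G}
    (hQ : IsB p b Q) (hQR : Q ≤ R) (hRQ : R ≤ Q ⊔ N) (hQ' : IsB p b Q') (hQR' : Q' ≤ R)
    (hRQ' : R ≤ Q' ⊔ N) : ∃ n ∈ N, Q' = Q.map (MulAut.conj n).toMonoidHom := by
  haveI := L.normalN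
  suffices h : ∃ n ∈ N, Q.map (MulAut.conj n).toMonoidHom ≤ Q' by
    obtain ⟨n, hn, h⟩ := h
    refine ⟨n, hn, (eq_of_le_of_card_ge h ?_).symm⟩
    rw [card_map_of_injective (MulAut.conj n).injective, L.card_eq hQ hQR hRQ,
      L.card_eq hQ' hQR' hRQ']
  haveI : (N.subgroupOf R).Normal := L.normalN.subgroupOf R
  have hcard : ∀ {S : Subgroup G}, IsB p b S → S ≤ R → R ≤ S ⊔ N →
      Nat.card (S.subgroupOf R) = (N.subgroupOf R).index := fun h1 h2 h3 => by
    rw [Nat.card_congr (subgroupOfEquivOfLe h2).toEquiv, L.card_eq h1 h2 h3]; rfl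
  rcases hor with rfl | hc
  · have hS : ∀ {S : Subgroup G}, IsB p true S → S ≤ R → R ≤ S ⊔ N →
        ∃ P : Sylow p R, (P : Subgroup R) = S.subgroupOf R := fun {S} h1 h2 h3 => by
      refine ⟨IsPGroup.toSylow (isB_iff_pGroup.1 h1 |>.comap_subtype) ?_, rfl⟩
      intro hd
      change p ∣ (S.subgroupOf R).index at hd
      have h4 : Nat.card (S.subgroupOf R) * (S.subgroupOf R).index =
          Nat.card (N.subgroupOf R) * (N.subgroupOf R).index := by
        rw [card_mul_index, card_mul_index]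
      rw [hcard h1 h2 h3, mul_comm (Nat.card (N.subgroupOf R))] at h4
      rw [Nat.eq_of_mul_eq_mul_left (Nat.pos_of_ne_zero index_ne_zero_of_finite) h4,
        Nat.card_congr (subgroupOfEquivOfLe L.le).toEquiv] at hd
      exact (hp.out.coprime_iff_not_dvd.1 (coprime_of_isB L.isB).symm) hd
    obtain ⟨P, hP⟩ := hS hQ hQR hRQ
    obtain ⟨P', hP'⟩ := hS hQ' hQR' hRQ'
    obtain ⟨g, hg⟩ := MulAction.exists_smul_eq R P P'
    have hgR : (g : G) ∈ Q ⊔ N := hRQ g.2
    rw [sup_comm, ← SetLike.mem_coe, normal_mul N Q] at hgR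
    obtain ⟨n, hn, q, hq, hnq⟩ := Set.mem_mul.1 hgR
    refine ⟨n, hn, ?_⟩
    rintro _ ⟨x, hx, rfl⟩
    have hx' : (⟨q⁻¹ * x * q, hQR (mul_mem (mul_mem (inv_mem hq) hx) hq)⟩ : ↥R) ∈ (P : Subgroup R) :=
      hP ▸ (show q⁻¹ * x * q ∈ Q from mul_mem (mul_mem (inv_mem hq) hx) hq)
    have := (Subgroup.smul_mem_pointwise_smul_iff (a := MulAut.conj g)).2 hx'
    rw [show MulAut.conj g • (P : Subgroup R) = ((g • P : Sylow p R) : Subgroup R) from
      (Sylow.coe_subgroup_smul).symm, hg, hP'] at this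
    have h5 : (g : G) * (q⁻¹ * x * q) * (g : G)⁻¹ ∈ Q' := this
    rw [← hnq] at h5
    simpa [MulAut.conj_apply, mul_assoc] using h5
  · haveI : IsMulCommutative (N.subgroupOf R) := ⟨⟨fun x y => by
      refine Subtype.ext (Subtype.ext ?_)
      show ((x : ↥R) : G) * ((y : ↥R) : G) = ((y : ↥R) : G) * ((x : ↥R) : G)
      exact congrArg Subtype.val (hc.is_comm.comm (⟨((x : ↥R) : G), x.2⟩ : N) ⟨((y : ↥R) : G), y.2⟩)⟩⟩
    obtain ⟨a, ha, h⟩ := Grp.complements_conj_abelian (N.subgroupOf R) (by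
      rw [Nat.card_congr (subgroupOfEquivOfLe L.le).toEquiv]
      exact L.coprime) (hcard hQ hQR hRQ) (hcard hQ' hQR' hRQ')
    refine ⟨a, ha, ?_⟩
    rintro _ ⟨x, hx, rfl⟩
    have := (Subgroup.smul_mem_pointwise_smul_iff (a := MulAut.conj a)
      (x := (⟨x, hQR hx⟩ : ↥R))).2 (show (⟨x, hQR hx⟩ : ↥R) ∈ Q.subgroupOf R from hx)
    rw [h] at this
    exact this

/-- `R` is not centralised by `N` exactly when the part prime to `N` is needed. -/
theorem Layer.gen_le (L : Layer p b N R) (hQ : IsB p b Q) (hRQ : R ≤ Q ⊔ N) {C : Subgroup G}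
    (hC : C ≤ R) (hcomm : ∀ x ∈ C, ∀ n ∈ N, Commute x n) : gen p b C ≤ Q := by
  haveI := L.normalN
  exact gen_le_of_commute hQ L.isB (hC.trans hRQ) hcomm

/-- An abelian layer whose bottom is minimal normal and not central. -/
structure AbLayer (p : ℕ) (b : Bool) (N R : Subgroup G) : Prop extends Layer p b N R where
  comm : IsMulCommutative N
  min : ∀ M : Subgroup G, M.Normal → M ≤ N → M = ⊥ ∨ M = N
  faith : ¬ ∀ x ∈ R, ∀ n ∈ N, Commute x n

theorem AbLayer.commN (L : AbLayer p b N R) {x y : G} (hx : x ∈ N) (hy : y ∈ N) : Commute x y :=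
  congrArg Subtype.val (L.comm.is_comm.comm ⟨x, hx⟩ ⟨y, hy⟩)

theorem normal_inf_of_sup_top {Z : Subgroup G} [hN : N.Normal] (hc : ∀ x ∈ N, ∀ y ∈ N, Commute x y)
    (hZ : Z ⊔ N = ⊤) : (Z ⊓ N).Normal := by
  refine ⟨fun x hx g => ?_⟩
  have hg : g ∈ Z ⊔ N := hZ ▸ mem_top g
  rw [← SetLike.mem_coe, mul_normal Z N] at hg
  obtain ⟨z, hz, n, hn, rfl⟩ := Set.mem_mul.1 hg
  have : z * n * x * (z * n)⁻¹ = z * x * z⁻¹ := by
    rw [show z * n * x * (z * n)⁻¹ = z * (n * x) * n⁻¹ * z⁻¹ by group, (hc n hn x hx.2).eq]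
    group
  rw [this]
  exact ⟨Z.mul_mem (Z.mul_mem hz hx.1) (Z.inv_mem hz), hN.conj_mem x hx.2 z⟩

theorem AbLayer.eq_one_of_normalizes (L : AbLayer p b N R) (hQ : IsB p b Q) (hQR : Q ≤ R)
    (hRQ : R ≤ Q ⊔ N) {n : G} (hn : n ∈ N) (hnQ : n ∈ normalizer (Q : Set G)) : n = 1 := by
  haveI := L.normalN
  set C := N ⊓ centralizer (Q : Set G) with hC
  have hnC : n ∈ C := by
    refine ⟨hn, mem_centralizer_iff.2 fun q hq => ?_⟩
    exact commute_of_disjoint (H := Q) (K := N ⊓ normalizer (Q : Set G))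
      (le_bot_iff.1 ((inf_le_inf_left Q inf_le_left).trans (isB_disjoint hQ L.isB).le))
      (fun k hk x hx => (mem_normalizer_iff.1 hk.2 x).1 hx)
      (fun x hx k hk => ⟨L.normalN.conj_mem k hk.1 x,
        (normalizer (Q : Set G)).mul_mem ((normalizer (Q : Set G)).mul_mem (le_normalizer hx) hk.2)
          ((normalizer (Q : Set G)).inv_mem (le_normalizer hx))⟩) hq ⟨hn, hnQ⟩
  have hCn : C.Normal := by
    refine ⟨fun x hx g => ?_⟩
    have hconj : IsB p b (Q.map (MulAut.conj g).toMonoidHom) := by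
      rintro _ ⟨q, hq, rfl⟩
      exact el_conj g (hQ q hq)
    have hmap : ∀ {S : Subgroup G}, S.Normal → S.map (MulAut.conj g).toMonoidHom = S := fun {S} hS =>
      le_antisymm (by rintro _ ⟨s, hs, rfl⟩; exact hS.conj_mem s hs g) fun s hs =>
        ⟨g⁻¹ * s * g, by simpa using hS.conj_mem s hs g⁻¹, by simp [mul_assoc]⟩
    obtain ⟨m, hm, e⟩ := L.conj (Or.inr L.comm) hQ hQR hRQ hconj
      ((map_mono hQR).trans (hmap L.normalR).le) (by
        have h := map_mono (f := (MulAut.conj g).toMonoidHom) hRQ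
        rwa [hmap L.normalR, Subgroup.map_sup, hmap L.normalN] at h)
    refine ⟨L.normalN.conj_mem x hx.1 g, mem_centralizer_iff.2 fun q hq => ?_⟩
    -- `g = m k` with `k` normalising `Q`
    set k := m⁻¹ * g with hk
    have hkQ : q * (g * x * g⁻¹) = g * x * g⁻¹ * q := by
      have h1 : g⁻¹ * (m * q * m⁻¹) * g ∈ Q := by
        have : m * q * m⁻¹ ∈ Q.map (MulAut.conj g).toMonoidHom := e ▸ ⟨q, hq, rfl⟩
        obtain ⟨q', hq', e'⟩ := this
        rw [← e']
        simpa [MulAut.conj_apply, mul_assoc] using hq'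
      have h2 : Commute (g⁻¹ * (m * q * m⁻¹) * g) x := mem_centralizer_iff.1 hx.2 _ h1
      have h3 := Commute.map h2 (MulAut.conj g).toMonoidHom
      simp only [MulEquiv.coe_toMonoidHom, MulAut.conj_apply] at h3
      rw [show g * (g⁻¹ * (m * q * m⁻¹) * g) * g⁻¹ = m * q * m⁻¹ by group] at h3
      have h4 := Commute.map h3 (MulAut.conj m⁻¹).toMonoidHom
      simp only [MulEquiv.coe_toMonoidHom, MulAut.conj_apply, inv_inv] at h4
      rw [show m⁻¹ * (m * q * m⁻¹) * m = q by group, show m⁻¹ * (g * x * g⁻¹) * m = g * x * g⁻¹ by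
        rw [mul_assoc, ← (L.commN hm (L.normalN.conj_mem x hx.1 g)).eq, inv_mul_cancel_left]] at h4
      exact h4
    exact hkQ
  rcases L.min C hCn inf_le_left with h | h
  · exact mem_bot.1 (h ▸ hnC)
  · refine absurd (fun x hx n hn' => ?_) L.faith
    have hxQ := hRQ hx
    rw [← SetLike.mem_coe, mul_normal Q N] at hxQ
    obtain ⟨q, hq, m, hm, rfl⟩ := Set.mem_mul.1 hxQ
    exact Commute.mul_left (mem_centralizer_iff.1 (h.ge hn').2 q hq) (L.commN hm hn')

/-- A proper supplement is the normalizer of a conjugate complement. -/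
theorem AbLayer.supplement (L : AbLayer p b N R) (hQ : IsB p b Q) (hQR : Q ≤ R)
    (hRQ : R ≤ Q ⊔ N) {Z : Subgroup G} (hZ : Z ⊔ N = ⊤) (hZne : Z ≠ ⊤) :
    Z ⊓ N = ⊥ ∧ ∃ m ∈ N, Z = normalizer (Q.map (MulAut.conj m).toMonoidHom : Set G) := by
  haveI := L.normalN
  have hd : Z ⊓ N = ⊥ := by
    rcases L.min _ (normal_inf_of_sup_top (fun x hx y hy => L.commN hx hy) hZ) inf_le_right with h | h
    · exact h
    · exact absurd (by rwa [sup_eq_left.2 (inf_eq_right.1 h)] at hZ) hZne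
  refine ⟨hd, ?_⟩
  set Q' := Z ⊓ R
  have hQ' : IsB p b Q' := L.isB_of_inf inf_le_right
    (le_bot_iff.1 ((inf_le_inf_right N inf_le_left).trans hd.le))
  have hRQ' : R ≤ Q' ⊔ N := by
    intro x hx
    have hx' : x ∈ Z ⊔ N := hZ ▸ mem_top x
    rw [← SetLike.mem_coe, mul_normal Z N] at hx'
    obtain ⟨z, hz, n, hn, rfl⟩ := Set.mem_mul.1 hx'
    refine mul_mem (mem_sup_left ⟨hz, ?_⟩) (mem_sup_right hn)
    simpa using mul_mem hx (inv_mem (L.le hn))
  obtain ⟨m, hm, e⟩ := L.conj (Or.inr L.comm) hQ hQR hRQ hQ' inf_le_right hRQ'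
  refine ⟨m, hm, ?_⟩
  rw [← e]
  have hle : Z ≤ normalizer (Q' : Set G) := Cfsg.Agent.Grp.invariant_iff.1
    fun z hz x hx => ⟨Z.mul_mem (Z.mul_mem hz hx.1) (Z.inv_mem hz), L.normalR.conj_mem x hx.2 z⟩
  refine le_antisymm hle fun g hg => ?_
  have hg' : g ∈ Z ⊔ N := hZ ▸ mem_top g
  rw [← SetLike.mem_coe, mul_normal Z N] at hg'
  obtain ⟨z, hz, n, hn, rfl⟩ := Set.mem_mul.1 hg'
  have hnQ : n ∈ normalizer (Q' : Set G) := by simpa using mul_mem (inv_mem (hle hz)) hg
  rw [L.eq_one_of_normalizes hQ' inf_le_right hRQ' hn hnQ, mul_one]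
  exact hz

/-- Lifts of two generators, the first fixed and not central on `N`, can be chosen to generate. -/
theorem AbLayer.exists_generate (L : AbLayer p b N R) {w y : G}
    (hwy : closure ({w, y} : Set G) ⊔ N = ⊤) (hw : ∃ n ∈ N, ¬ Commute w n) :
    ∃ n ∈ N, closure ({w, y * n} : Set G) = ⊤ := by
  haveI := L.normalN
  obtain ⟨Q, hQ, hQR, hRQ⟩ := L.exists_complement
  by_contra hcon
  push Not at hcon
  have hsup : ∀ n ∈ N, closure ({w, y * n} : Set G) ⊔ N = ⊤ := by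
    intro n hn
    refine top_le_iff.1 (hwy.ge.trans (sup_le ((closure_le _).2 ?_) le_sup_right))
    rintro u (h | h) <;> rw [h]
    · exact mem_sup_left (Subgroup.subset_closure (by simp))
    · rw [show y = y * n * n⁻¹ by group]
      exact mul_mem (mem_sup_left (Subgroup.subset_closure (by simp))) (mem_sup_right (inv_mem hn))
  choose hd m hmN hm using fun (n : G) (hn : n ∈ N) => L.supplement hQ hQR hRQ (hsup n hn) (hcon n hn)
  set C := N ⊓ centralizer ({w} : Set G) with hC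
  have hlt : Nat.card C < Nat.card N := by
    refine lt_of_le_of_ne (card_le_of_le inf_le_left) fun e => ?_
    obtain ⟨n, hn, hwn⟩ := hw
    exact hwn ((mem_centralizer_singleton_iff.1 ((eq_of_le_of_card_ge inf_le_left e.ge).ge hn).2).symm)
  have hwm : ∀ n hn, (m n hn)⁻¹ * w * m n hn ∈ normalizer (Q : Set G) := by
    intro n hn
    have hwZ : w ∈ normalizer (Q.map (MulAut.conj (m n hn)).toMonoidHom : Set G) :=
      hm n hn ▸ Subgroup.subset_closure (by simp)
    rw [← Subgroup.map_equiv_normalizer_eq] at hwZ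
    obtain ⟨v, hv, e⟩ := hwZ
    rw [← e]
    simpa [MulAut.conj_apply, mul_assoc] using hv
  -- the map `n ↦ m n` into a coset of the centraliser of `w`
  let f : N → C := fun n => ⟨m n n.2 * (m 1 N.one_mem)⁻¹, N.mul_mem (hmN _ _) (N.inv_mem (hmN _ _)), by
    set a := m n n.2
    set c := m 1 N.one_mem
    have hdiff : (a⁻¹ * w * a)⁻¹ * (c⁻¹ * w * c) ∈ N := by
      rw [show (a⁻¹ * w * a)⁻¹ * (c⁻¹ * w * c) =
        a⁻¹ * (w⁻¹ * (a * c⁻¹) * w⁻¹⁻¹) * c by group]
      exact mul_mem (mul_mem (inv_mem (hmN _ _)) (L.normalN.conj_mem _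
        (mul_mem (hmN _ _) (inv_mem (hmN _ _))) _)) (hmN _ _)
    have h1 := L.eq_one_of_normalizes hQ hQR hRQ hdiff (mul_mem (inv_mem (hwm _ _)) (hwm _ _))
    refine mem_centralizer_singleton_iff.2 ?_
    calc a * c⁻¹ * w = a * (c⁻¹ * w * c) * c⁻¹ := by group
      _ = a * (a⁻¹ * w * a) * c⁻¹ := by rw [inv_mul_eq_one.1 h1]
      _ = w * (a * c⁻¹) := by group⟩
  have hf : Function.Injective f := by
    intro n n' h
    have he : m n n.2 = m n' n'.2 := mul_right_cancel (congrArg Subtype.val h)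
    have hZ : closure ({w, y * n} : Set G) = closure ({w, y * n'} : Set G) := by
      rw [hm n n.2, hm n' n'.2, he]
    have h1 : (n : G)⁻¹ * n' ∈ closure ({w, y * n} : Set G) ⊓ N := by
      refine ⟨?_, N.mul_mem (N.inv_mem n.2) n'.2⟩
      rw [show (n : G)⁻¹ * n' = (y * n)⁻¹ * (y * n') by group]
      exact (closure ({w, y * (n : G)} : Set G)).mul_mem
        ((closure ({w, y * (n : G)} : Set G)).inv_mem (Subgroup.subset_closure (by simp)))
        (hZ ▸ Subgroup.subset_closure (by simp))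
    rw [hd n n.2, mem_bot] at h1
    exact Subtype.ext (inv_mul_eq_one.1 h1)
  exact absurd (Nat.card_le_card_of_injective f hf) (not_le.2 hlt)

end Cfsg.Agent.Fus.Powell
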