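import Cfsg.Agent.Lib.Grp.TwoGen.Upper
import Cfsg.Agent.Lib.Grp.PSolvable

/-!
Elements of p-power order and of order prime to p, the subgroups they generate, the alternating
residual series, and membership criteria for `O_{p',p}`.
-/

set_option autoImplicit false

namespace Cfsg.Agent.Fus.Powell

open Subgroup

set_option linter.style.haveILetI false
set_option linter.unusedSectionVars false
open Cfsg.Agent.Grp.TwoGen (core upper)

variable {G G' : Type*} [Group G] [Group G'] {p : ℕ}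

/-- `x` is a p-element (`true`) or has order prime to p (`false`). -/
def El (p : ℕ) : Bool → G → Prop
  | true, x => ∃ k : ℕ, x ^ p ^ k = 1
  | false, x => (orderOf x).Coprime p

/-- All elements of `K` have the given type. -/
def IsB (p : ℕ) (b : Bool) (K : Subgroup G) : Prop := ∀ x ∈ K, El p b x

/-- The subgroup generated by the elements of `K` of the given type. -/
def gen (p : ℕ) (b : Bool) (K : Subgroup G) : Subgroup G := closure {x | x ∈ K ∧ El p b x}

def par (n : ℕ) : Bool := decide (Even n)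

/-- The alternating residual series. -/
def res (p : ℕ) : ℕ → Subgroup G → Subgroup G
  | 0, K => K
  | n + 1, K => gen p (par n) (res p n K)

theorem par_succ (n : ℕ) : par (n + 1) = !par n := by
  simp only [par, Nat.even_add_one, decide_not]

theorem par_double (n : ℕ) : par (2 * n) = true := by simp [par]

theorem el_map {b : Bool} {x : G} (f : G →* G') (hx : El p b x) : El p b (f x) := by
  cases b with
  | true =>
    obtain ⟨k, hk⟩ := hx
    exact ⟨k, by rw [← map_pow, hk, map_one]⟩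
  | false => exact Nat.Coprime.coprime_dvd_left (orderOf_map_dvd f x) hx

theorem el_one (b : Bool) : El p b (1 : G) := by
  cases b with
  | true => exact ⟨0, one_pow _⟩
  | false => simp [El]

theorem el_inv {b : Bool} {x : G} (hx : El p b x) : El p b x⁻¹ := by
  cases b with
  | true =>
    obtain ⟨k, hk⟩ := hx
    exact ⟨k, by rw [inv_pow, hk, inv_one]⟩
  | false => simpa [El] using hx

theorem el_conj {b : Bool} {x : G} (g : G) (hx : El p b x) : El p b (g * x * g⁻¹) :=
  el_map (MulAut.conj g).toMonoidHom hx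

theorem el_mul {b : Bool} {x y : G} (h : Commute x y) (hx : El p b x) (hy : El p b y) :
    El p b (x * y) := by
  cases b with
  | true =>
    obtain ⟨k, hk⟩ := hx
    obtain ⟨l, hl⟩ := hy
    exact ⟨k + l, by rw [h.mul_pow, pow_add, pow_mul, hk, one_pow, one_mul, mul_comm, pow_mul, hl,
      one_pow]⟩
  | false =>
    exact Nat.Coprime.coprime_dvd_left h.orderOf_mul_dvd_mul_orderOf (Nat.Coprime.mul_left hx hy)

theorem el_zpow {b : Bool} {x : G} (hx : El p b x) (i : ℤ) : El p b (x ^ i) := by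
  cases b with
  | true =>
    obtain ⟨k, hk⟩ := hx
    exact ⟨k, by rw [← zpow_natCast, ← zpow_mul, mul_comm, zpow_mul, zpow_natCast, hk, one_zpow]⟩
  | false =>
    refine Nat.Coprime.coprime_dvd_left ?_ hx
    exact orderOf_dvd_of_mem_zpowers (mem_zpowers_iff.2 ⟨i, rfl⟩)

theorem el_both {b : Bool} {x : G} (h : El p b x) (h' : El p (!b) x) : x = 1 := by
  have key : ∀ {y : G}, El p true y → El p false y → y = 1 := fun {y} ⟨k, hk⟩ hy =>
    orderOf_eq_one_iff.1 (Nat.eq_one_of_dvd_coprimes (Nat.Coprime.pow_right k hy) dvd_rfl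
      (orderOf_dvd_of_pow_eq_one hk))
  cases b with
  | true => exact key h h'
  | false => exact key h' h

theorem el_map_iff {b : Bool} {x : G} (f : G →* G') (hf : Function.Injective f) :
    El p b (f x) ↔ El p b x := by
  refine ⟨fun h => ?_, el_map f⟩
  cases b with
  | true =>
    obtain ⟨k, hk⟩ := h
    exact ⟨k, hf (by rw [map_pow, hk, map_one])⟩
  | false => simpa [El, orderOf_injective f hf] using h

/-- Decomposition of an element into its two parts. -/
theorem split [Finite G] [hp : Fact p.Prime] (b : Bool) (x : G) :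
    ∃ u v : G, u ∈ zpowers x ∧ v ∈ zpowers x ∧ El p b u ∧ El p (!b) v ∧ x = u * v := by
  suffices h : ∃ u v : G, u ∈ zpowers x ∧ v ∈ zpowers x ∧ El p true u ∧ El p false v ∧ x = u * v by
    obtain ⟨u, v, hu, hv, h1, h2, h3⟩ := h
    cases b with
    | true => exact ⟨u, v, hu, hv, h1, h2, h3⟩
    | false =>
      refine ⟨v, u, hv, hu, h2, h1, h3.trans ?_⟩
      obtain ⟨i, rfl⟩ := mem_zpowers_iff.1 hu
      obtain ⟨j, rfl⟩ := mem_zpowers_iff.1 hv
      rw [← zpow_add, ← zpow_add, add_comm]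
  obtain ⟨e, m, hm, he⟩ := Nat.exists_eq_pow_mul_and_not_dvd (orderOf_pos x).ne' p hp.out.ne_one
  have hc : Int.gcd (m : ℤ) ((p ^ e : ℕ) : ℤ) = 1 := by
    rw [Int.gcd_natCast_natCast]
    exact ((hp.out.coprime_iff_not_dvd.2 hm).pow_left e).symm
  obtain ⟨s, t, hst⟩ := Int.isCoprime_iff_gcd_eq_one.2 hc
  have hx : x ^ (((p ^ e : ℕ) : ℤ) * (m : ℤ)) = 1 := by
    rw [← Nat.cast_mul, ← he, zpow_natCast, pow_orderOf_eq_one]
  refine ⟨x ^ (s * (m : ℤ)), x ^ (t * ((p ^ e : ℕ) : ℤ)), zpow_mem (mem_zpowers x) _,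
    zpow_mem (mem_zpowers x) _, ⟨e, ?_⟩, ?_, by rw [← zpow_add, hst, zpow_one]⟩
  · rw [← zpow_natCast, ← zpow_mul,
      show s * (m : ℤ) * ((p ^ e : ℕ) : ℤ) = ((p ^ e : ℕ) : ℤ) * (m : ℤ) * s by ring, zpow_mul, hx,
      one_zpow]
  · refine Nat.Coprime.coprime_dvd_left ?_ (hp.out.coprime_iff_not_dvd.2 hm).symm
    refine orderOf_dvd_of_pow_eq_one ?_
    rw [← zpow_natCast, ← zpow_mul,
      show t * ((p ^ e : ℕ) : ℤ) * (m : ℤ) = ((p ^ e : ℕ) : ℤ) * (m : ℤ) * t by ring, zpow_mul, hx,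
      one_zpow]

theorem exists_lift [Finite G] [Fact p.Prime] {b : Bool} (f : G →* G') {y : G} (h : El p b (f y)) :
    ∃ u ∈ zpowers y, El p b u ∧ f u = f y := by
  obtain ⟨u, v, hu, hv, h1, h2, h3⟩ := split (p := p) b y
  obtain ⟨i, hi⟩ := mem_zpowers_iff.1 hv
  have : f v = 1 := el_both (b := b) (by rw [← hi, map_zpow]; exact el_zpow h i) (el_map f h2)
  exact ⟨u, hu, h1, by rw [h3, map_mul, this, mul_one]⟩

theorem gen_le (b : Bool) (K : Subgroup G) : gen p b K ≤ K := (closure_le _).2 fun _ h => h.1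

theorem gen_mono (b : Bool) {H K : Subgroup G} (h : H ≤ K) : gen p b H ≤ gen p b K :=
  closure_mono fun _ hx => ⟨h hx.1, hx.2⟩

theorem mem_gen {b : Bool} {K : Subgroup G} {x : G} (hx : x ∈ K) (h : El p b x) : x ∈ gen p b K :=
  Subgroup.subset_closure ⟨hx, h⟩

theorem gen_gen (b : Bool) (K : Subgroup G) : gen p b (gen p b K) = gen p b K :=
  le_antisymm (gen_le _ _) ((closure_le _).2 fun _ hx => mem_gen (mem_gen hx.1 hx.2) hx.2)

theorem gen_eq_self {b : Bool} {K : Subgroup G} (h : IsB p b K) : gen p b K = K :=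
  le_antisymm (gen_le _ _) fun _ hx => mem_gen hx (h _ hx)

theorem isB_mono {b : Bool} {H K : Subgroup G} (h : IsB p b K) (hle : H ≤ K) : IsB p b H :=
  fun x hx => h x (hle hx)

theorem gen_map [Finite G] [Fact p.Prime] (b : Bool) (K : Subgroup G) (f : G →* G') :
    gen p b (K.map f) = (gen p b K).map f := by
  apply le_antisymm
  · refine (closure_le _).2 ?_
    rintro _ ⟨⟨y, hy, rfl⟩, h⟩
    obtain ⟨u, hu, hub, e⟩ := exists_lift f h
    exact ⟨u, mem_gen (zpowers_le.2 hy hu) hub, e⟩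
  · rw [map_le_iff_le_comap]
    exact (closure_le _).2 fun x hx => mem_gen ⟨x, hx.1, rfl⟩ (el_map f hx.2)

theorem gen_normal (b : Bool) (K : Subgroup G) [hK : K.Normal] : (gen p b K).Normal := by
  refine ⟨fun x hx g => ?_⟩
  have : gen p b K ≤ (gen p b K).comap (MulAut.conj g).toMonoidHom :=
    (closure_le _).2 fun y hy => mem_gen (hK.conj_mem y hy.1 g) (el_conj g hy.2)
  exact this hx

theorem normalizes_gen (b : Bool) {K : Subgroup G} {g : G}
    (hg : ∀ x ∈ K, g * x * g⁻¹ ∈ K) : ∀ x ∈ gen p b K, g * x * g⁻¹ ∈ gen p b K := by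
  have : gen p b K ≤ (gen p b K).comap (MulAut.conj g).toMonoidHom :=
    (closure_le _).2 fun y hy => mem_gen (hg y hy.1) (el_conj g hy.2)
  exact fun x hx => this hx

theorem isB_of_gen_eq_bot [Finite G] [Fact p.Prime] {b : Bool} {K : Subgroup G}
    (h : gen p b K = ⊥) : IsB p (!b) K := by
  intro x hx
  obtain ⟨u, v, hu, -, h1, h2, h3⟩ := split (p := p) b x
  have : u = 1 := mem_bot.1 (h ▸ mem_gen (zpowers_le.2 hx hu) h1)
  rwa [h3, this, one_mul]

theorem gen_eq_bot_of_isB {b : Bool} {K : Subgroup G} (h : IsB p (!b) K) : gen p b K = ⊥ :=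
  le_bot_iff.1 ((closure_le _).2 fun x hx => mem_bot.2 (el_both hx.2 (h x hx.1)))

theorem isB_disjoint {b : Bool} {H K : Subgroup G} (hH : IsB p b H) (hK : IsB p (!b) K) :
    H ⊓ K = ⊥ :=
  (eq_bot_iff_forall _).2 fun x hx => el_both (hH x hx.1) (hK x hx.2)

theorem isB_iff_pGroup {K : Subgroup G} : IsB p true K ↔ IsPGroup p K :=
  ⟨fun h ⟨x, hx⟩ => (h x hx).imp fun _ hk => Subtype.ext hk,
   fun h x hx => (h ⟨x, hx⟩).imp fun _ hk => congrArg Subtype.val hk⟩

theorem coprime_of_isB [Finite G] [hp : Fact p.Prime] {K : Subgroup G} (h : IsB p false K) :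
    (Nat.card K).Coprime p := by
  refine (hp.out.coprime_iff_not_dvd.2 fun hd => ?_).symm
  obtain ⟨x, hx⟩ := exists_prime_orderOf_dvd_card' (G := K) p hd
  have := h x x.2
  rw [El, Subgroup.orderOf_coe, hx, Nat.coprime_self] at this
  exact hp.out.ne_one this

theorem isB_of_coprime {K : Subgroup G} (h : (Nat.card K).Coprime p) : IsB p false K :=
  fun _ hx => h.coprime_dvd_left (Subgroup.orderOf_dvd_natCard _ hx)

theorem coprime_card [Finite G] [hp : Fact p.Prime] {b : Bool} {H K : Subgroup G} (hH : IsB p b H)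
    (hK : IsB p (!b) K) : (Nat.card H).Coprime (Nat.card K) := by
  have key : ∀ {A B : Subgroup G}, IsB p true A → IsB p false B →
      (Nat.card A).Coprime (Nat.card B) := fun {A B} hA hB => by
    obtain ⟨k, hk⟩ := IsPGroup.iff_card.1 (isB_iff_pGroup.1 hA)
    rw [hk]
    exact ((coprime_of_isB hB).symm).pow_left k
  cases b with
  | true => exact key hH hK
  | false => exact (key hK hH).symm

theorem commute_of_disjoint {H K : Subgroup G} (hHK : H ⊓ K = ⊥)
    (h1 : ∀ k ∈ K, ∀ x ∈ H, k * x * k⁻¹ ∈ H) (h2 : ∀ x ∈ H, ∀ k ∈ K, x * k * x⁻¹ ∈ K)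
    {x k : G} (hx : x ∈ H) (hk : k ∈ K) : Commute x k := by
  have h : x * k * x⁻¹ * k⁻¹ ∈ H ⊓ K := by
    refine ⟨?_, K.mul_mem (h2 x hx k hk) (K.inv_mem hk)⟩
    rw [show x * k * x⁻¹ * k⁻¹ = x * (k * x⁻¹ * k⁻¹) by group]
    exact H.mul_mem hx (h1 k hk _ (H.inv_mem hx))
  rw [hHK, mem_bot] at h
  calc x * k = (x * k * x⁻¹ * k⁻¹) * (k * x) := by group
    _ = k * x := by rw [h, one_mul]

/-- In a subgroup of commuting parts the elements of one type lie in that part. -/
theorem gen_le_of_commute {b : Bool} {Q N : Subgroup G} (hQ : IsB p b Q) (hN : IsB p (!b) N)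
    [N.Normal] {C : Subgroup G} (hC : C ≤ Q ⊔ N) (hcomm : ∀ x ∈ C, ∀ n ∈ N, Commute x n) :
    gen p b C ≤ Q := by
  refine (closure_le _).2 ?_
  rintro x ⟨hx, hxb⟩
  have hxQN := hC hx
  rw [← SetLike.mem_coe, mul_normal Q N] at hxQN
  obtain ⟨q, hq, n, hn, rfl⟩ := Set.mem_mul.1 hxQN
  have h0 : Commute (q * n) n := hcomm _ hx n hn
  have hqn : Commute q n := mul_right_cancel (b := n) (h0.eq.trans (mul_assoc n q n).symm)
  have : n = 1 := by
    refine el_both (b := b) ?_ (hN n hn)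
    rw [show n = q⁻¹ * (q * n) by group]
    exact el_mul ((Commute.refl q).inv_left.mul_right hqn.inv_left) (el_inv (hQ q hq)) hxb
  simpa [this] using hq

theorem res_le (n : ℕ) (K : Subgroup G) : res p n K ≤ K := by
  induction n with
  | zero => exact le_rfl
  | succ n ih => exact (gen_le _ _).trans ih

theorem res_mono (n : ℕ) {H K : Subgroup G} (h : H ≤ K) : res p n H ≤ res p n K := by
  induction n with
  | zero => exact h
  | succ n ih => exact gen_mono _ ih

theorem res_map [Finite G] [Fact p.Prime] (n : ℕ) (K : Subgroup G) (f : G →* G') :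
    res p n (K.map f) = (res p n K).map f := by
  induction n with
  | zero => rfl
  | succ n ih => simp only [res]; rw [ih, gen_map]

theorem normalizes_res (n : ℕ) {K : Subgroup G} {g : G} (hg : ∀ x ∈ K, g * x * g⁻¹ ∈ K) :
    ∀ x ∈ res p n K, g * x * g⁻¹ ∈ res p n K := by
  induction n with
  | zero => exact hg
  | succ n ih => exact normalizes_gen _ ih

theorem res_normal (n : ℕ) (K : Subgroup G) [K.Normal] : (res p n K).Normal :=
  ⟨fun x hx g => normalizes_res n (fun y hy => ‹K.Normal›.conj_mem y hy g) x hx⟩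

section Upper

variable [Finite G] [hp : Fact p.Prime]

/-- A normal subgroup of `H` whose elements of order prime to p generate a p'-group lies in
`O_{p',p}(H)`. -/
theorem le_upper_of_normal {H U : Subgroup G} (hU : U ≤ H)
    (hn : ∀ h ∈ H, ∀ x ∈ U, h * x * h⁻¹ ∈ U) (hc : IsB p false (gen p false U)) :
    U ≤ upper p H := by
  haveI : (Cfsg.pPrimeCore p H).Normal := Grp.pPrimeCore_isNormal
  set π := QuotientGroup.mk' (Cfsg.pPrimeCore p H)
  haveI hUn : (U.subgroupOf H).Normal := ⟨fun x hx h => hn h h.2 x hx⟩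
  haveI hVn : ((gen p false U).subgroupOf H).Normal :=
    ⟨fun x hx h => normalizes_gen false (fun y hy => hn h h.2 y hy) x hx⟩
  have hV : (gen p false U).subgroupOf H ≤ Cfsg.pPrimeCore p H := by
    refine Grp.le_pPrimeCore hVn ?_
    rw [Nat.card_congr (subgroupOfEquivOfLe ((gen_le _ _).trans hU)).toEquiv]
    exact coprime_of_isB hc
  have hp' : IsPGroup p ((U.subgroupOf H).map π) := by
    rw [← isB_iff_pGroup]
    rintro _ ⟨x, hx, rfl⟩
    obtain ⟨u, v, hu, hv, h1, h2, h3⟩ := split (p := p) true x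
    have hv1 : π v = 1 := (QuotientGroup.eq_one_iff v).2 (hV (mem_gen
      (K := U) (x := (v : G)) (zpowers_le.2 hx hv) (el_map H.subtype h2)))
    rw [h3, map_mul, hv1, mul_one]
    exact el_map π h1
  intro x hx
  exact ⟨⟨x, hU hx⟩, Grp.le_pCore (Normal.map hUn π (QuotientGroup.mk'_surjective _)) hp'
    ⟨⟨x, hU hx⟩, hx, rfl⟩, rfl⟩

theorem conj_mem_upper {H : Subgroup G} {h x : G} (hh : h ∈ H) (hx : x ∈ upper p H) :
    h * x * h⁻¹ ∈ upper p H := by
  haveI : (Cfsg.pPrimeCore p H).Normal := Grp.pPrimeCore_isNormal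
  haveI := Grp.pCore_isNormal (p := p) (G := ↥H ⧸ Cfsg.pPrimeCore p ↥H)
  haveI hn : (Cfsg.pPrimePCore p H).Normal := Normal.comap inferInstance _
  obtain ⟨y, hy, rfl⟩ := hx
  exact ⟨⟨h, hh⟩ * y * ⟨h, hh⟩⁻¹, hn.conj_mem y hy _, rfl⟩

theorem isB_core (H : Subgroup G) : IsB p false (core p H) :=
  isB_of_coprime (Cfsg.Agent.Grp.TwoGen.core_coprime H)

theorem gen_false_upper_le (H : Subgroup G) : gen p false (upper p H) ≤ core p H :=
  (closure_le _).2 fun _ hx => Cfsg.Agent.Grp.TwoGen.mem_core_of_mem_upper hx.1 hx.2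

theorem inf_upper_le {H K : Subgroup G} (h : H ≤ K) : upper p K ⊓ H ≤ upper p H :=
  le_upper_of_normal inf_le_right
    (fun _ ha _ hx => ⟨conj_mem_upper (h ha) hx.1, H.mul_mem (H.mul_mem ha hx.2) (H.inv_mem ha)⟩)
    (isB_mono (isB_core K) ((gen_mono _ inf_le_left).trans (gen_false_upper_le K)))

theorem map_upper_le [Finite G'] (H : Subgroup G) (f : G →* G') :
    (upper p H).map f ≤ upper p (H.map f) := by
  refine le_upper_of_normal (map_mono (Cfsg.Agent.Grp.TwoGen.upper_le H)) ?_ ?_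
  · rintro _ ⟨h, hh, rfl⟩ _ ⟨x, hx, rfl⟩
    exact ⟨h * x * h⁻¹, conj_mem_upper hh hx, by simp⟩
  · rw [gen_map]
    rintro _ ⟨x, hx, rfl⟩
    exact el_map f (isB_core H x (gen_false_upper_le H hx))

theorem map_upper_eq [Finite G'] (H : Subgroup G) (f : G →* G') (hf : Function.Injective f) :
    upper p (H.map f) = (upper p H).map f := by
  refine le_antisymm ?_ (map_upper_le H f)
  intro y hy
  obtain ⟨x, hx, rfl⟩ := Cfsg.Agent.Grp.TwoGen.upper_le _ hy
  refine ⟨x, ?_, rfl⟩
  have hle : (upper p (H.map f)).comap f ⊓ H ≤ upper p H := by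
    refine le_upper_of_normal inf_le_right (fun h hh x hx => ⟨?_, ?_⟩) fun x hx => ?_
    · show f (h * x * h⁻¹) ∈ upper p (H.map f)
      rw [map_mul, map_mul, map_inv]
      exact conj_mem_upper ⟨h, hh, rfl⟩ hx.1
    · exact H.mul_mem (H.mul_mem hh hx.2) (H.inv_mem hh)
    · refine (el_map_iff f hf).1 (isB_core (H.map f) (f x) (gen_false_upper_le (H.map f) ?_))
      have h1 : ((upper p (H.map f)).comap f ⊓ H).map f ≤ upper p (H.map f) :=
        (map_mono inf_le_left).trans (map_comap_le _ _)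
      refine gen_mono _ h1 ?_
      rw [gen_map]
      exact ⟨x, hx, rfl⟩
  exact hle ⟨hy, hx⟩

end Upper

end Cfsg.Agent.Fus.Powell
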