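import Cfsg.Agent.Lib.Fus.Powell.Two
import Cfsg.Agent.Lib.Grp.SignalizerTransitive

/-!
Powell's theorem: a simple group whose proper subgroups are p-soluble (p dividing its order) is generated
by three elements.

Elements lying in `O_{p',p}(H)` for every proper `H` containing them exist, are closed under products inside
a p-group, and congruence modulo cores is an equivalence on them because three of them lie in a proper
subgroup. A central one acts trivially on the classes, so all are isolated, and Burnside's transfer finishes.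
-/

set_option autoImplicit false
set_option linter.style.haveILetI false
set_option linter.unusedSectionVars false

namespace Cfsg.Agent.Fus.Powell

open Subgroup
open Cfsg.Agent.Grp.TwoGen (core upper)

universe u

variable {G : Type u} [Group G] [Finite G] {p : ℕ} [hp : Fact p.Prime]

/-- A counterexample. -/
structure Three (p : ℕ) (G : Type u) [Group G] : Prop where
  simple : IsSimpleGroup G
  noncomm : ¬ IsMulCommutative G
  dvd : p ∣ Nat.card G
  proper : ∀ H : Subgroup G, H ≠ ⊤ → Cfsg.IsPSolvable p H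
  three : ∀ x y z : G, closure ({x, y, z} : Set G) ≠ ⊤

/-- A p-element lying in `O_{p',p}` of every proper subgroup containing it. -/
def Up (p : ℕ) (x : G) : Prop :=
  El p true x ∧ ∀ H : Subgroup G, H ≠ ⊤ → x ∈ H → x ∈ upper p H

/-- Congruence modulo cores. -/
def Eqv (p : ℕ) (x y : G) : Prop := El p false (x⁻¹ * y)

theorem res_succ_eq_bot_of_stable (hX : ∀ b : Bool, gen p b (⊤ : Subgroup G) = ⊤)
    (hsol : Cfsg.IsPSolvable p G) : (⊤ : Subgroup G) = ⊥ := by
  obtain ⟨n, H, h0, hl, -, hn, hi⟩ := hsol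
  suffices h : ∀ i, H i = ⊤ from (h 0).symm.trans h0
  intro i
  induction i using Fin.reverseInduction with
  | last => exact hl
  | cast i ih =>
    haveI := hn i.castSucc
    have h := hi i
    rw [ih, Subgroup.relIndex_top_right, Subgroup.index] at h
    obtain ⟨b, hb⟩ : ∃ b : Bool, IsB p b (⊤ : Subgroup (G ⧸ H i.castSucc)) := by
      rcases h with ⟨m, hm⟩ | hc
      · exact ⟨true, isB_iff_pGroup.2 ((IsPGroup.of_card hm).to_subgroup ⊤)⟩
      · exact ⟨false, isB_of_coprime (by rwa [card_top])⟩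
    refine top_le_iff.1 ((hX (!b)).ge.trans ((closure_le _).2 fun x hx => ?_))
    exact (QuotientGroup.eq_one_iff x).1
      (el_both (b := b) (hb _ (mem_top _)) (el_map (QuotientGroup.mk' (H i.castSucc)) hx.2))

theorem par_odd (i : ℕ) : par (2 * i + 1) = false := by rw [par_succ, par_double]; rfl

theorem res_bound {K : Subgroup G} (hK : Cfsg.IsPSolvable p K) (i : ℕ) :
    res p (2 * i + 1) K = ⊥ ∨ Nat.card (res p (2 * i + 1) K) + i ≤ Nat.card G := by
  induction i with
  | zero => exact Or.inr (Subgroup.card_le_card_group _)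
  | succ i ih =>
    set X := res p (2 * i + 1) K with hX
    have e : res p (2 * (i + 1) + 1) K = gen p true (gen p false X) := by
      show gen p (par (2 * i + 2)) (gen p (par (2 * i + 1)) X) = _
      rw [show 2 * i + 2 = 2 * (i + 1) by ring, par_double, par_odd]
    have hle : res p (2 * (i + 1) + 1) K ≤ X := e ▸ (gen_le _ _).trans (gen_le _ _)
    by_cases heq : res p (2 * (i + 1) + 1) K = X
    · left
      rw [heq]
      rw [e] at heq
      have h1 : gen p false X = X := le_antisymm (gen_le _ _) (heq.ge.trans (gen_le _ _))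
      have h2 : gen p true X = X := by rwa [h1] at heq
      have htop : (⊤ : Subgroup X).map X.subtype = X := by rw [← MonoidHom.range_eq_map, range_subtype]
      have := res_succ_eq_bot_of_stable (G := X) (p := p) (fun b => by
        refine Subgroup.map_injective X.subtype_injective ?_
        rw [← gen_map, htop]
        cases b with
        | true => exact h2
        | false => exact h1)
        (Grp.isPSolvable_map (Block.PPartDerived.isPSolvable_subgroup hK (X.subgroupOf K))
          (subgroupOfEquivOfLe (res_le _ K)).toMonoidHom (subgroupOfEquivOfLe (res_le _ K)).surjective)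
      rw [← htop, this, Subgroup.map_bot]
    · rcases ih with h | h
      · exact Or.inl (le_bot_iff.1 (h ▸ hle))
      · right
        have hlt : Nat.card (res p (2 * (i + 1) + 1) K) < Nat.card X :=
          lt_of_le_of_ne (card_le_of_le hle) fun e' => heq (eq_of_le_of_card_ge hle e'.ge)
        omega

variable (S : Three p G)
include S

theorem Three.ne_top_of_pair (x y : G) : closure ({x, y} : Set G) ≠ ⊤ := fun h =>
  S.three x y y (top_le_iff.1 (h.ge.trans (closure_mono (by simp))))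

theorem Three.up_of {x : G} (hx : El p true x)
    (h : ∀ g : G, ∃ K : Subgroup G, g ∈ K ∧ x ∈ upper p K) : Up p x := by
  refine ⟨hx, fun H hH hxH => ?_⟩
  by_contra hu
  obtain ⟨g, -, hg⟩ := exists_witness (S.proper H hH) hx hxH hu
  obtain ⟨K, hgK, hxK⟩ := h g
  refine hg (inf_upper_le ?_ ⟨hxK, Subgroup.subset_closure (by simp)⟩)
  rw [closure_le]
  rintro u (e | e) <;> rw [e]
  · exact Cfsg.Agent.Grp.TwoGen.upper_le K hxK
  · exact hgK

theorem Three.up_mul {x y : G} (hx : Up p x) (hy : Up p y) (h : El p true (x * y)) : Up p (x * y) :=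
  S.up_of h fun g => ⟨closure ({x, y, g} : Set G), Subgroup.subset_closure (by simp),
    mul_mem (hx.2 _ (S.three x y g) (Subgroup.subset_closure (by simp)))
      (hy.2 _ (S.three x y g) (Subgroup.subset_closure (by simp)))⟩

theorem Three.exists_up : ∃ w : G, w ≠ 1 ∧ Up p w := by
  classical
  let P : ℕ → Prop := fun i => ∃ K : Subgroup G, K ≠ ⊤ ∧ res p (2 * i + 1) K ≠ ⊥
  have hP0 : P 0 := by
    obtain ⟨x, hx⟩ := exists_prime_orderOf_dvd_card' (G := G) p S.dvd
    refine ⟨closure ({x, x} : Set G), S.ne_top_of_pair x x, fun h => ?_⟩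
    have hx1 : x = 1 := mem_bot.1 (h ▸ mem_gen (Subgroup.subset_closure (by simp))
      ⟨1, by rw [pow_one, ← hx, pow_orderOf_eq_one]⟩)
    rw [hx1, orderOf_one] at hx
    exact hp.out.ne_one hx.symm
  have hlt : ∀ i, P i → i < Nat.card G := by
    rintro i ⟨K, hK, hne⟩
    have h := (res_bound (S.proper K hK) i).resolve_left hne
    have : 0 < Nat.card (res p (2 * i + 1) K) := Nat.card_pos
    omega
  set L := Nat.findGreatest P (Nat.card G)
  have hPL : P L := Nat.findGreatest_spec (Nat.zero_le _) hP0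
  have hmax : ∀ K : Subgroup G, K ≠ ⊤ → res p (2 * (L + 1) + 1) K = ⊥ := fun K hK => by
    by_contra hne
    have h1 := hlt _ ⟨K, hK, hne⟩
    exact Nat.findGreatest_is_greatest (lt_add_one L) h1.le ⟨K, hK, hne⟩
  obtain ⟨K, hK, hne⟩ := hPL
  obtain ⟨x, y, hle, hxy⟩ := exists_two (S.proper K hK) hne
  obtain ⟨w, hw, hwp, hw1⟩ : ∃ w ∈ res p (2 * L + 1) (closure ({x, y} : Set G)),
      El p true w ∧ w ≠ 1 := by
    by_contra hcon
    push Not at hcon
    refine hxy (le_bot_iff.1 ((closure_le _).2 fun z hz => mem_bot.2 ?_))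
    rw [par_double] at hz
    exact hcon z (mem_gen hz.1 (by rw [par_double]; exact hz.2)) hz.2
  refine ⟨w, hw1, S.up_of hwp fun g => ⟨closure ({x, y, g} : Set G),
    Subgroup.subset_closure (by simp), ?_⟩⟩
  set M := closure ({x, y, g} : Set G)
  have hsub : closure ({x, y} : Set G) ≤ M := closure_mono (by simp [Set.insert_subset_iff])
  refine le_upper_of_normal (res_le _ M) (fun h hh z hz => normalizes_res _ ?_ z hz) ?_
    (res_mono _ hsub hw)
  · exact fun z hz => M.mul_mem (M.mul_mem hh hz) (M.inv_mem hh)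
  · have h := hmax M (S.three x y g)
    have e : res p (2 * (L + 1) + 1) M = gen p true (gen p false (res p (2 * L + 1) M)) := by
      show gen p (par (2 * L + 2)) (gen p (par (2 * L + 1)) _) = _
      rw [show 2 * L + 2 = 2 * (L + 1) by ring, par_double, par_odd]
      rfl
    rw [e] at h
    exact isB_of_gen_eq_bot h

omit S

theorem up_conj {x : G} (g : G) (hx : Up p x) : Up p (g * x * g⁻¹) := by
  refine ⟨el_conj g hx.1, fun H hH hgx => ?_⟩
  set f := (MulAut.conj g).toMonoidHom with hf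
  have hfi : Function.Injective f := (MulAut.conj g).injective
  have hmap : (H.comap f).map f = H := map_comap_eq_self_of_surjective (MulAut.conj g).surjective H
  have hne : H.comap f ≠ ⊤ := fun e => hH (by
    rw [← hmap, e, map_top_of_surjective f (MulAut.conj g).surjective])
  have h := map_upper_le (p := p) (H.comap f) f ⟨x, hx.2 _ hne hgx, rfl⟩
  rwa [hmap] at h

theorem Eqv.refl (x : G) : Eqv p x x := by
  rw [Eqv, inv_mul_cancel]; exact el_one false

theorem Eqv.symm {x y : G} (h : Eqv p x y) : Eqv p y x := by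
  rw [Eqv, show y⁻¹ * x = (x⁻¹ * y)⁻¹ by group]; exact el_inv h

theorem Eqv.conj {x y : G} (g : G) (h : Eqv p x y) : Eqv p (g * x * g⁻¹) (g * y * g⁻¹) := by
  rw [Eqv, show (g * x * g⁻¹)⁻¹ * (g * y * g⁻¹) = g * (x⁻¹ * y) * g⁻¹ by group]
  exact el_conj g h

theorem Eqv.eq {T : Subgroup G} (hT : IsPGroup p T) {x y : G} (hx : x ∈ T) (hy : y ∈ T)
    (h : Eqv p x y) : x = y :=
  inv_mul_eq_one.1 (el_both (b := false) h (isB_iff_pGroup.2 hT _ (mul_mem (inv_mem hx) hy)))

theorem eqv_core {K : Subgroup G} {r x : G} (hr : r ∈ core p K) (hx : x ∈ K) :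
    Eqv p x (r * x * r⁻¹) := by
  refine isB_core K _ ?_
  rw [show x⁻¹ * (r * x * r⁻¹) = (x⁻¹ * r * x⁻¹⁻¹) * r⁻¹ by group]
  exact mul_mem (Cfsg.Agent.Grp.TwoGen.conj_mem_core (inv_mem hx) hr) (inv_mem hr)

theorem isPGroup_zpowers {x : G} (hx : El p true x) : IsPGroup p (zpowers x) :=
  isB_iff_pGroup.1 fun z hz => by
    obtain ⟨i, rfl⟩ := mem_zpowers_iff.1 hz
    exact el_zpow hx i

include S

theorem Three.eqv_trans {x y z : G} (hx : Up p x) (hy : Up p y) (hz : Up p z) (h1 : Eqv p x y)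
    (h2 : Eqv p y z) : Eqv p x z := by
  set K := closure ({x, y, z} : Set G) with hK
  have hu : ∀ {u}, Up p u → u ∈ ({x, y, z} : Set G) → u ∈ upper p K := fun h hm =>
    h.2 K (S.three x y z) (Subgroup.subset_closure hm)
  have hc1 : x⁻¹ * y ∈ core p K := Cfsg.Agent.Grp.TwoGen.mem_core_of_mem_upper
    (mul_mem (inv_mem (hu hx (by simp))) (hu hy (by simp))) h1
  have hc2 : y⁻¹ * z ∈ core p K := Cfsg.Agent.Grp.TwoGen.mem_core_of_mem_upper
    (mul_mem (inv_mem (hu hy (by simp))) (hu hz (by simp))) h2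
  refine isB_core K _ ?_
  rw [show x⁻¹ * z = (x⁻¹ * y) * (y⁻¹ * z) by group]
  exact mul_mem hc1 hc2

theorem Three.up_one : Up p (1 : G) := ⟨el_one true, fun _ _ _ => one_mem _⟩

/-- The elements of a Sylow subgroup lying in every `O_{p',p}`. -/
def Three.upPart (S : Three p G) (P : Sylow p G) : Subgroup G where
  carrier := {x | x ∈ (P : Subgroup G) ∧ Up p x}
  one_mem' := ⟨one_mem _, S.up_one⟩
  mul_mem' := fun {x y} hx hy => ⟨mul_mem hx.1 hy.1,
    S.up_mul hx.2 hy.2 (isB_iff_pGroup.2 P.isPGroup' _ (mul_mem hx.1 hy.1))⟩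
  inv_mem' := fun {x} hx => ⟨inv_mem hx.1, el_inv hx.2.1, fun H hH hH' =>
    inv_mem (hx.2.2 H hH (by simpa using inv_mem hH'))⟩

theorem Three.mem_upPart {P : Sylow p G} {x : G} :
    x ∈ S.upPart P ↔ x ∈ (P : Subgroup G) ∧ Up p x := Iff.rfl

theorem Three.upPart_le (P : Sylow p G) : S.upPart P ≤ (P : Subgroup G) := fun _ h => h.1

theorem Three.card_upPart (P P' : Sylow p G) :
    Nat.card (S.upPart P') = Nat.card (S.upPart P) := by
  obtain ⟨g, rfl⟩ := MulAction.exists_smul_eq G P P'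
  have e : S.upPart (g • P) = (S.upPart P).map (MulAut.conj g).toMonoidHom := by
    ext x
    rw [S.mem_upPart, Sylow.coe_subgroup_smul, Subgroup.mem_pointwise_smul_iff_inv_smul_mem]
    constructor
    · rintro ⟨h1, h2⟩
      refine ⟨g⁻¹ * x * g, ⟨by simpa [MulAut.smul_def, mul_assoc] using h1, ?_⟩, by
        simp [mul_assoc]⟩
      simpa using up_conj g⁻¹ h2
    · rintro ⟨y, ⟨h1, h2⟩, rfl⟩
      exact ⟨by simpa [MulAut.smul_def, mul_assoc] using h1, up_conj g h2⟩
  rw [e]
  exact (Nat.card_congr ((S.upPart P).equivMapOfInjective _ (MulAut.conj g).injective).toEquiv).symm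

theorem Three.ne_top_of_pGroup {T : Subgroup G} (hT : IsPGroup p T) : T ≠ ⊤ := by
  intro h
  haveI := S.simple
  subst h
  have hG : IsPGroup p G := hT.of_equiv Subgroup.topEquiv
  haveI : Nontrivial G := S.simple.toNontrivial
  haveI := hG.center_nontrivial
  rcases (inferInstance : (center G).Normal).eq_bot_or_eq_top with e | e
  · exact (center G).nontrivial_iff_ne_bot.1 inferInstance e
  · exact S.noncomm ⟨⟨fun x y => mem_center_iff.1 (e.ge (mem_top y)) x⟩⟩

theorem Three.normalizer_ne_top {T : Subgroup G} (hT : IsPGroup p T) (hne : T ≠ ⊥) :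
    normalizer (T : Set G) ≠ ⊤ := by
  intro h
  haveI := S.simple
  rcases (normalizer_eq_top_iff.1 h).eq_bot_or_eq_top with e | e
  · exact hne e
  · exact S.ne_top_of_pGroup hT e

theorem Three.centralizer_ne_top {y : G} (hy : y ≠ 1) : centralizer ({y} : Set G) ≠ ⊤ := by
  intro h
  haveI := S.simple
  have hc : y ∈ center G := mem_center_iff.2 fun x => mem_centralizer_singleton_iff.1 (h.ge (mem_top x))
  rcases (inferInstance : (center G).Normal).eq_bot_or_eq_top with e | e
  · exact hy (mem_bot.1 (e ▸ hc))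
  · exact S.noncomm ⟨⟨fun x z => mem_center_iff.1 (e.ge (mem_top z)) x⟩⟩

/-- The centres of these parts are strongly closed. -/
theorem Three.central : ∀ (m : ℕ) (P Q : Sylow p G),
    Nat.card G - Nat.card ↥(S.upPart P ⊓ S.upPart Q) = m → ∀ y ∈ S.upPart P, y ∈ S.upPart Q →
    (∀ s ∈ S.upPart Q, Commute s y) → ∀ x ∈ S.upPart P, Commute x y := by
  intro m
  induction m using Nat.strong_induction_on with
  | _ m ih =>
  intro P Q hm y hyP hyQ hQ x hx
  rcases eq_or_ne y 1 with rfl | hy1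
  · exact Commute.one_right x
  set B := S.upPart P ⊓ S.upPart Q with hB
  by_cases hBP : B = S.upPart P
  · exact hQ x ((hBP.ge hx).2)
  have hyB : y ∈ B := ⟨hyP, hyQ⟩
  have hBne : B ≠ ⊥ := fun h => hy1 (mem_bot.1 (h ▸ hyB))
  have hBp : IsPGroup p B := P.isPGroup'.to_le (inf_le_left.trans (S.upPart_le P))
  have hBQ : B ≠ S.upPart Q := fun h => hBP (eq_of_le_of_card_ge inf_le_left (by
    rw [h, S.card_upPart P Q]))
  set N := normalizer (B : Set G)
  have hN : N ≠ ⊤ := S.normalizer_ne_top hBp hBne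
  have hPl := Grp.lt_inf_normalizer (P.isPGroup'.to_le (S.upPart_le P)).isNilpotent
    (lt_of_le_of_ne inf_le_left hBP)
  have hQl := Grp.lt_inf_normalizer (Q.isPGroup'.to_le (S.upPart_le Q)).isNilpotent
    (lt_of_le_of_ne inf_le_right hBQ)
  set NP := S.upPart P ⊓ N
  set NQ := S.upPart Q ⊓ N
  obtain ⟨r, hr, T, hT, hQT, hPT⟩ := Cfsg.Agent.Grp.TwoGen.exists_core_conj_le (H := N)
    (A := NQ) (B := NP) (p := p) (fun z hz => hz.1.2.2 N hN hz.2) (fun z hz => hz.1.2.2 N hN hz.2)
    (Q.isPGroup'.to_le (inf_le_left.trans (S.upPart_le Q)))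
    (P.isPGroup'.to_le (inf_le_left.trans (S.upPart_le P)))
  obtain ⟨P₃, hP₃⟩ := hT.exists_le_sylow
  have hNQ : NQ ≤ S.upPart P₃ := fun z hz => ⟨hP₃ (hQT hz), hz.1.2⟩
  have hdec : ∀ {E : Subgroup G}, B < E → ∀ (P' Q' : Sylow p G), E ≤ S.upPart P' ⊓ S.upPart Q' →
      Nat.card G - Nat.card ↥(S.upPart P' ⊓ S.upPart Q') < m := by
    intro E hlt P' Q' hle
    have h1 : Nat.card B < Nat.card E :=
      lt_of_le_of_ne (card_le_of_le hlt.le) fun e => hlt.ne (eq_of_le_of_card_ge hlt.le e.ge)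
    have h2 := card_le_of_le hle
    have h3 := Subgroup.card_le_card_group (S.upPart P' ⊓ S.upPart Q')
    omega
  have h3 : ∀ z ∈ S.upPart P₃, Commute z y := ih _ (hdec hQl P₃ Q (le_inf hNQ inf_le_left))
    P₃ Q rfl y (hNQ ⟨hyQ, le_normalizer hyB⟩) hyQ hQ
  have hry : Commute r y := commute_of_disjoint (H := core p N) (K := B)
    (isB_disjoint (b := false) (isB_core N) (isB_iff_pGroup.2 hBp))
    (fun k hk z hz => Cfsg.Agent.Grp.TwoGen.conj_mem_core (le_normalizer hk) hz)
    (fun z hz k hk => (mem_normalizer_iff.1 (Cfsg.Agent.Grp.TwoGen.core_le N hz) k).1 hk) hr hyB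
  have hNPy : ∀ z ∈ NP, Commute z y := by
    intro z hz
    have h4 : Commute (r * z * r⁻¹) y := h3 _ ⟨hP₃ (hPT z hz), up_conj r hz.1.2⟩
    have h5 := Commute.map h4 (MulAut.conj r⁻¹).toMonoidHom
    simp only [MulEquiv.coe_toMonoidHom, MulAut.conj_apply, inv_inv] at h5
    rw [show r⁻¹ * (r * z * r⁻¹) * r = z by group,
      show r⁻¹ * y * r = y by rw [mul_assoc, ← hry.eq, inv_mul_cancel_left]] at h5
    exact h5
  set C := centralizer ({y} : Set G)
  have hC : C ≠ ⊤ := S.centralizer_ne_top hy1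
  obtain ⟨r', hr', T', hT', hPT', hQT'⟩ := Cfsg.Agent.Grp.TwoGen.exists_core_conj_le (H := C)
    (A := NP) (B := S.upPart Q) (p := p)
    (fun z hz => hz.1.2.2 C hC (mem_centralizer_singleton_iff.2 (hNPy z hz).eq))
    (fun z hz => hz.2.2 C hC (mem_centralizer_singleton_iff.2 (hQ z hz).eq))
    (P.isPGroup'.to_le (inf_le_left.trans (S.upPart_le P))) (Q.isPGroup'.to_le (S.upPart_le Q))
  obtain ⟨P₄, hP₄⟩ := hT'.exists_le_sylow
  have hNP : NP ≤ S.upPart P₄ := fun z hz => ⟨hP₄ (hPT' hz), hz.1.2⟩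
  have hr'y : Commute r' y := mem_centralizer_singleton_iff.1 (Cfsg.Agent.Grp.TwoGen.core_le C hr')
  have hmap : (S.upPart Q).map (MulAut.conj r').toMonoidHom = S.upPart P₄ := by
    refine eq_of_le_of_card_ge ?_ ?_
    · rintro _ ⟨z, hz, rfl⟩
      exact ⟨hP₄ (hQT' z hz), up_conj r' hz.2⟩
    · rw [S.card_upPart Q P₄]
      exact (Nat.card_congr
        ((S.upPart Q).equivMapOfInjective _ (MulAut.conj r').injective).toEquiv).le
  have h4 : ∀ z ∈ S.upPart P₄, Commute z y := by
    rw [← hmap]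
    rintro _ ⟨z, hz, rfl⟩
    have h5 := Commute.map (hQ z hz) (MulAut.conj r').toMonoidHom
    simp only [MulEquiv.coe_toMonoidHom, MulAut.conj_apply] at h5 ⊢
    rwa [show r' * y * r'⁻¹ = y by rw [hr'y.eq, mul_inv_cancel_right]] at h5
  exact ih _ (hdec hPl P P₄ (le_inf inf_le_left hNP)) P P₄ rfl y hyP
    (hNP ⟨hyP, le_normalizer hyB⟩) h4 x hx

/-- Every element lying in every `O_{p',p}` is congruent to its conjugates. -/
theorem Three.eqv_conj_self {z : G} (hz : Up p z) (g : G) : Eqv p (g * z * g⁻¹) z := by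
  let K : Subgroup G :=
    { carrier := {g | ∀ z : G, Up p z → Eqv p (g * z * g⁻¹) z}
      one_mem' := fun z _ => by simpa using Eqv.refl z
      mul_mem' := fun {g h} hg hh z hz => by
        rw [show g * h * z * (g * h)⁻¹ = g * (h * z * h⁻¹) * g⁻¹ by group]
        exact S.eqv_trans (up_conj g (up_conj h hz)) (up_conj h hz) hz (hg _ (up_conj h hz)) (hh z hz)
      inv_mem' := fun {g} hg z hz => by
        have h := hg _ (up_conj g⁻¹ hz)
        rw [show g * (g⁻¹ * z * g⁻¹⁻¹) * g⁻¹ = z by group] at h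
        exact h.symm }
  haveI hKn : K.Normal := ⟨fun k hk g z hz => by
    have h := (hk _ (up_conj g⁻¹ hz)).conj g
    rwa [show g * (k * (g⁻¹ * z * g⁻¹⁻¹) * k⁻¹) * g⁻¹ = g * k * g⁻¹ * z * (g * k * g⁻¹)⁻¹ by group,
      show g * (g⁻¹ * z * g⁻¹⁻¹) * g⁻¹ = z by group] at h⟩
  suffices hK : K = ⊤ from (hK.ge (mem_top g) : g ∈ K) z hz
  -- a central element acts trivially
  obtain ⟨w, hw1, hw⟩ := S.exists_up
  obtain ⟨P, hP⟩ := (isPGroup_zpowers hw.1).exists_le_sylow
  have hwA : w ∈ S.upPart P := ⟨hP (mem_zpowers w), hw⟩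
  haveI : Nontrivial (S.upPart P) := ⟨⟨⟨w, hwA⟩, 1, fun e => hw1 (congrArg Subtype.val e)⟩⟩
  haveI := (P.isPGroup'.to_le (S.upPart_le P)).center_nontrivial
  obtain ⟨⟨⟨a, haA⟩, hac⟩, ha⟩ := exists_ne (1 : center (S.upPart P))
  have ha1 : a ≠ 1 := fun e => ha (Subtype.ext (Subtype.ext e))
  have haK : a ∈ K := by
    intro z hz
    have hJ := S.ne_top_of_pair a z
    obtain ⟨r, hr, hT⟩ := Cfsg.Agent.Grp.TwoGen.exists_core_conj
      (haA.2.2 _ hJ (Subgroup.subset_closure (by simp)))
      (hz.2 _ hJ (Subgroup.subset_closure (by simp))) (isPGroup_zpowers haA.2.1) (isPGroup_zpowers hz.1)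
    obtain ⟨P', hP'⟩ := hT.exists_le_sylow
    set z' := r * z * r⁻¹
    have haP' : a ∈ S.upPart P' := ⟨hP' (Subgroup.subset_closure (by simp)), haA.2⟩
    have hz' : z' ∈ S.upPart P' := ⟨hP' (Subgroup.subset_closure (by simp [z'])), up_conj r hz⟩
    have hcm : Commute z' a := S.central _ P' P rfl a haP' haA (fun s hs =>
      congrArg Subtype.val (mem_center_iff.1 hac ⟨s, hs⟩)) z' hz'
    have h1 : Eqv p z z' := eqv_core hr (Subgroup.subset_closure (by simp))
    have h2 := h1.conj a
    rw [show a * z' * a⁻¹ = z' by rw [← hcm.eq, mul_inv_cancel_right]] at h2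
    exact S.eqv_trans (up_conj a hz) hz'.2 hz h2 h1.symm
  haveI := S.simple
  rcases hKn.eq_bot_or_eq_top with e | e
  · exact absurd (mem_bot.1 (e ▸ haK)) ha1
  · exact e

/-- No counterexample. -/
theorem Three.contra : False := by
  obtain ⟨a, ha1, ha⟩ := S.exists_up
  obtain ⟨P, hP⟩ := (isPGroup_zpowers ha.1).exists_le_sylow
  have haP : a ∈ (P : Subgroup G) := hP (mem_zpowers a)
  have hiso : ∀ {z : G}, Up p z → z ∈ (P : Subgroup G) → ∀ g : G,
      g * z * g⁻¹ ∈ (P : Subgroup G) → g * z * g⁻¹ = z :=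
    fun {z} hz hzP g hg => (S.eqv_conj_self hz g).eq P.isPGroup' hg hzP
  have hcen : ∀ {z : G}, Up p z → z ∈ (P : Subgroup G) → ∀ u ∈ (P : Subgroup G), Commute u z :=
    fun {z} hz hzP u hu => mul_inv_eq_iff_eq_mul.1 (hiso hz hzP u (mul_mem (mul_mem hu hzP) (inv_mem hu)))
  set C := centralizer ({a} : Set G)
  have hC : C ≠ ⊤ := S.centralizer_ne_top ha1
  have hPC : (P : Subgroup G) ≤ C := fun u hu =>
    mem_centralizer_singleton_iff.2 (hcen ha haP u hu).eq
  have haC : a ∈ C := hPC haP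
  have hupC : ∀ u ∈ (P : Subgroup G), u ∈ upper p C → Up p u := by
    intro u hu huC
    refine S.up_of (isB_iff_pGroup.2 P.isPGroup' u hu) fun g => ?_
    set K := closure ({a, u, g} : Set G)
    have haK : a ∈ K := Subgroup.subset_closure (by simp)
    have huK : u ∈ K := Subgroup.subset_closure (by simp)
    refine ⟨K, Subgroup.subset_closure (by simp), ?_⟩
    haveI hcn : (Cfsg.pPrimeCore p K).Normal := Grp.pPrimeCore_isNormal
    set π := QuotientGroup.mk' (Cfsg.pPrimeCore p K)
    set X := (upper p C ⊓ K).subgroupOf K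
    haveI hXn : (X.map π).Normal := by
      refine ⟨?_⟩
      rintro _ ⟨x, hx, rfl⟩ q
      obtain ⟨k, rfl⟩ := QuotientGroup.mk'_surjective _ q
      set a' := (k : G) * a * (k : G)⁻¹
      have ha' : Up p a' := up_conj _ ha
      obtain ⟨r, hr, hT⟩ := Cfsg.Agent.Grp.TwoGen.exists_core_conj
        (ha.2 K (S.three a u g) haK)
        (ha'.2 K (S.three a u g) (mul_mem (mul_mem k.2 haK) (inv_mem k.2)))
        (isPGroup_zpowers ha.1) (isPGroup_zpowers ha'.1)
      have h1 : r * a' * r⁻¹ = a := by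
        have h2 := S.eqv_conj_self ha (r * k)
        rw [show r * (k : G) * a * (r * (k : G))⁻¹ = r * a' * r⁻¹ by simp [a', mul_assoc]] at h2
        exact h2.eq hT (Subgroup.subset_closure (by simp)) (Subgroup.subset_closure (by simp))
      obtain ⟨r₀, hr₀, rfl⟩ := hr
      have hπ : π (r₀ * k) = π k := by
        rw [map_mul, show π r₀ = 1 from (QuotientGroup.eq_one_iff r₀).2 hr₀, one_mul]
      refine ⟨r₀ * k * x * (r₀ * k)⁻¹, ?_, by rw [map_mul, map_mul, map_inv, hπ]⟩
      have hc : ((r₀ * k : K) : G) ∈ C := mem_centralizer_singleton_iff.2 (mul_inv_eq_iff_eq_mul.1 (by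
        rw [Subgroup.coe_mul]
        calc _ = (r₀ : G) * a' * (r₀ : G)⁻¹ := by simp [a', mul_assoc]
          _ = a := h1))
      exact ⟨conj_mem_upper hc hx.1, (r₀ * k * x * (r₀ * k)⁻¹).2⟩
    haveI := gen_normal (p := p) false (X.map π)
    have hb : IsB p false (gen p false (X.map π)) := by
      rw [gen_map]
      rintro _ ⟨x, hx, rfl⟩
      refine el_map π ((el_map_iff K.subtype K.subtype_injective).1 (isB_core C _ (gen_false_upper_le C ?_)))
      refine gen_mono false (H := X.map K.subtype) ?_ (by rw [gen_map]; exact ⟨x, hx, rfl⟩)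
      rintro _ ⟨z, hz, rfl⟩
      exact hz.1
    have h0 : gen p false (X.map π) = ⊥ := le_bot_iff.1 ((Grp.le_pPrimeCore inferInstance
      (coprime_of_isB hb)).trans Grp.pPrimeCore_quotient_bot.le)
    exact ⟨⟨u, huK⟩, Grp.le_pCore hXn (isB_iff_pGroup.1 (isB_of_gen_eq_bot h0))
      ⟨⟨u, huK⟩, ⟨huC, huK⟩, rfl⟩, rfl⟩
  -- the Sylow subgroup consists of such elements
  haveI hcn : (Cfsg.pPrimeCore p C).Normal := Grp.pPrimeCore_isNormal
  set π := QuotientGroup.mk' (Cfsg.pPrimeCore p C)
  have hall : ∀ u ∈ (P : Subgroup G), Up p u := by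
    intro u hu
    refine hupC u hu ⟨⟨u, hPC hu⟩, ?_, rfl⟩
    refine Grp.centralizer_pCore_le_of_pSolvable
      (Grp.isPSolvable_map (S.proper C hC) π (QuotientGroup.mk'_surjective _))
      Grp.pPrimeCore_quotient_bot (mem_centralizer_iff.2 fun w hw => ?_)
    have hle := Grp.pCore_le_sylow ((P.subtype hPC).mapSurjective (QuotientGroup.mk'_surjective
      (Cfsg.pPrimeCore p C)))
    obtain ⟨v, hv, rfl⟩ := hle hw
    rw [Sylow.coe_subtype, SetLike.mem_coe, mem_subgroupOf] at hv
    have hvU : Up p (v : G) := hupC v hv ⟨v, hw, rfl⟩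
    show π v * π ⟨u, hPC hu⟩ = π ⟨u, hPC hu⟩ * π v
    rw [← map_mul, ← map_mul]
    exact congrArg π (Subtype.ext (hcen hvU hv u hu).eq.symm)
  have hnc : normalizer ((P : Subgroup G) : Set G) ≤ centralizer ((P : Subgroup G) : Set G) := by
    intro g hg
    refine mem_centralizer_iff.2 fun u hu => ?_
    have := hiso (hall u hu) hu g ((mem_normalizer_iff.1 hg u).1 hu)
    exact (mul_inv_eq_iff_eq_mul.1 this).symm
  have hc := MonoidHom.ker_transferSylow_isComplement' P hnc
  haveI := S.simple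
  rcases (inferInstance : (MonoidHom.transferSylow P hnc).ker.Normal).eq_bot_or_eq_top with e | e
  · rw [e] at hc
    exact S.ne_top_of_pGroup P.isPGroup' (isComplement'_bot_left.1 hc)
  · rw [e] at hc
    exact P.ne_bot_of_dvd_card S.dvd (isComplement'_top_left.1 hc)

omit S

/-- Powell's theorem, for every prime. -/
theorem three_generated [IsSimpleGroup G] (hna : ¬ IsMulCommutative G) (hdvd : p ∣ Nat.card G)
    (hprop : ∀ H : Subgroup G, H ≠ ⊤ → Cfsg.IsPSolvable p H) :
    ∃ x y z : G, closure ({x, y, z} : Set G) = ⊤ := by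
  by_contra h
  push Not at h
  exact (⟨inferInstance, hna, hdvd, hprop, h⟩ : Three p G).contra

end Cfsg.Agent.Fus.Powell
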