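import Cfsg.Agent.Lib.Fus.Powell.Split
import Cfsg.Agent.Lib.Block.PPartDerived

/-!
In a p-soluble group a two-generated subgroup has the same alternating residual depth, and an element
outside `O_{p',p}` is outside it in some two-generated subgroup containing it.
-/

set_option autoImplicit false
set_option linter.style.haveILetI false
set_option linter.unusedSectionVars false

namespace Cfsg.Agent.Fus.Powell

open Subgroup
open Cfsg.Agent.Grp.TwoGen (core upper)

universe u

section Helpers

variable {G : Type u} [Group G] [Finite G] {p : ℕ} [hp : Fact p.Prime]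

theorem closure_lift {N : Subgroup G} [N.Normal] {x y : G}
    (h : closure ({QuotientGroup.mk' N x, QuotientGroup.mk' N y} : Set (G ⧸ N)) = ⊤) :
    closure ({x, y} : Set G) ⊔ N = ⊤ := by
  have h1 : (closure ({x, y} : Set G)).map (QuotientGroup.mk' N) = ⊤ := by
    rw [MonoidHom.map_closure, Set.image_pair]; exact h
  have := congrArg (Subgroup.comap (QuotientGroup.mk' N)) h1
  rwa [comap_map_eq, comap_top, QuotientGroup.ker_mk'] at this

theorem comap_ne_top {N : Subgroup G} [N.Normal] {M : Subgroup (G ⧸ N)} (h : M ≠ ⊤) :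
    M.comap (QuotientGroup.mk' N) ≠ ⊤ := fun e => h (by
  rw [← map_comap_eq_self_of_surjective (QuotientGroup.mk'_surjective N) M, e,
    map_top_of_surjective _ (QuotientGroup.mk'_surjective N)])

theorem card_quotient_lt {N : Subgroup G} (h : N ≠ ⊥) : Nat.card (G ⧸ N) < Nat.card G := by
  rw [card_eq_card_quotient_mul_card_subgroup N]
  exact lt_mul_of_one_lt_right Nat.card_pos ((Subgroup.one_lt_card_iff_ne_bot N).mpr h)

/-- A minimal normal p-subgroup is abelian. -/
theorem comm_of_pGroup {N : Subgroup G} [N.Normal] {q : ℕ} [Fact q.Prime] (hN : IsPGroup q N)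
    (hmin : ∀ M : Subgroup G, M.Normal → M ≤ N → M = ⊥ ∨ M = N) : IsMulCommutative N := by
  rcases eq_or_ne N ⊥ with rfl | hne
  · exact ⟨⟨fun x y => Subtype.ext (by simp [mem_bot.1 x.2, mem_bot.1 y.2])⟩⟩
  haveI : Nontrivial N := N.nontrivial_iff_ne_bot.2 hne
  haveI := hN.center_nontrivial
  haveI : ((center N).map N.subtype).Normal := inferInstance
  rcases hmin ((center N).map N.subtype) inferInstance (map_subtype_le _) with h | h
  · exact absurd ((map_eq_bot_iff_of_injective _ N.subtype_injective).1 h)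
      ((center N).nontrivial_iff_ne_bot.1 inferInstance)
  · refine ⟨⟨fun x y => ?_⟩⟩
    obtain ⟨z, hz, hzy⟩ := h.ge y.2
    obtain rfl : z = y := N.subtype_injective hzy
    exact mem_center_iff.1 hz x

theorem exists_minimal_normal {P : Subgroup G} (hP : P.Normal) (hne : P ≠ ⊥) :
    ∃ N : Subgroup G, N.Normal ∧ N ≠ ⊥ ∧ N ≤ P ∧
      ∀ M : Subgroup G, M.Normal → M ≤ N → M = ⊥ ∨ M = N := by
  obtain ⟨N, ⟨hN, hN1, hNP⟩, hmin⟩ := Set.exists_min_image
    {N : Subgroup G | N.Normal ∧ N ≠ ⊥ ∧ N ≤ P} (fun N => Nat.card N) (Set.toFinite _)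
    ⟨P, hP, hne, le_rfl⟩
  refine ⟨N, hN, hN1, hNP, fun M hM hle => or_iff_not_imp_left.2 fun hM1 => ?_⟩
  exact eq_of_le_of_card_ge hle (hmin M ⟨hM, hM1, hle.trans hNP⟩)

theorem inf_centralizer_normal (R N : Subgroup G) [R.Normal] [N.Normal] :
    (R ⊓ centralizer (N : Set G)).Normal := by
  haveI : (centralizer (N : Set G)).Normal := Subgroup.normal_centralizer
  exact Subgroup.normal_inf_normal _ _

/-- The case where the bottom is abelian: both lifts chosen to generate. -/
theorem AbLayer.exists_two {b : Bool} {N R : Subgroup G} (L : AbLayer p b N R) {x y : G}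
    (h : closure ({x, y} : Set G) ⊔ N = ⊤) : ∃ u v : G, closure ({u, v} : Set G) = ⊤ := by
  by_cases hx : ∀ n ∈ N, Commute x n
  · by_cases hy : ∀ n ∈ N, Commute y n
    · refine absurd (fun r _ n hn => ?_) L.faith
      have hle : closure ({x, y} : Set G) ⊔ N ≤ centralizer ({n} : Set G) := by
        refine sup_le ((closure_le _).2 ?_) fun m hm =>
          mem_centralizer_singleton_iff.2 (L.commN hm hn).eq
        rintro u (e | e) <;> rw [e] <;> refine mem_centralizer_singleton_iff.2 ?_
        · exact (hx n hn).eq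
        · exact (hy n hn).eq
      exact mem_centralizer_singleton_iff.1 (hle (h.ge (mem_top r)))
    · push Not at hy
      obtain ⟨n, -, hn⟩ := L.exists_generate (w := y) (y := x) (by rwa [Set.pair_comm]) hy
      exact ⟨_, _, hn⟩
  · push Not at hx
    obtain ⟨n, -, hn⟩ := L.exists_generate h hx
    exact ⟨_, _, hn⟩

end Helpers

variable {p : ℕ} [hp : Fact p.Prime]

set_option maxHeartbeats 1000000 in
/-- A group minimal for a nontrivial residual is two-generated. -/
theorem two_gen : ∀ (n : ℕ) (G : Type u) [Group G] [Finite G], Nat.card G = n →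
    Cfsg.IsPSolvable p G → ∀ k : ℕ, res p k (⊤ : Subgroup G) ≠ ⊥ →
    (∀ M : Subgroup G, M ≠ ⊤ → res p k M = ⊥) → ∃ x y : G, closure ({x, y} : Set G) = ⊤ := by
  intro n
  induction n using Nat.strong_induction_on with
  | _ n ih =>
  intro G _ _ hn hsol k hk hmin
  -- descent to a quotient
  have quot : ∀ (N : Subgroup G) [N.Normal], N ≠ ⊥ → ∀ i : ℕ,
      res p i (⊤ : Subgroup (G ⧸ N)) ≠ ⊥ → (∀ M : Subgroup G, M ≠ ⊤ → N ≤ M → res p i M ≤ N) →
      ∃ x y : G, closure ({x, y} : Set G) ⊔ N = ⊤ := by
    intro N _ hN i hi hM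
    obtain ⟨x, y, hxy⟩ := ih _ (hn ▸ card_quotient_lt hN) (G ⧸ N) rfl
      (Grp.isPSolvable_map hsol _ (QuotientGroup.mk'_surjective N)) i hi fun M hMne => by
        rw [← map_comap_eq_self_of_surjective (QuotientGroup.mk'_surjective N) M, res_map,
          Subgroup.map_eq_bot_iff, QuotientGroup.ker_mk']
        exact hM _ (comap_ne_top hMne) fun x hx => by
          show QuotientGroup.mk' N x ∈ M
          rw [show QuotientGroup.mk' N x = 1 from (QuotientGroup.eq_one_iff x).2 hx]
          exact one_mem _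
    obtain ⟨x, rfl⟩ := QuotientGroup.mk'_surjective N x
    obtain ⟨y, rfl⟩ := QuotientGroup.mk'_surjective N y
    exact ⟨x, y, closure_lift hxy⟩
  have himg : ∀ (N : Subgroup G) [N.Normal] (i : ℕ),
      res p i (⊤ : Subgroup (G ⧸ N)) = (res p i (⊤ : Subgroup G)).map (QuotientGroup.mk' N) := by
    intro N _ i
    rw [← res_map, map_top_of_surjective _ (QuotientGroup.mk'_surjective N)]
  -- small depth
  have hsmall : (∃ x : G, ∀ Z : Subgroup G, x ∈ Z → res p k Z ≠ ⊥) →
      ∃ x y : G, closure ({x, y} : Set G) = ⊤ := by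
    rintro ⟨x, hx⟩
    exact ⟨x, x, by_contra fun h => hx _ (Subgroup.subset_closure (by simp)) (hmin _ h)⟩
  match k, hk, hmin, hsmall with
  | 0, hk, _, hsmall =>
    obtain ⟨x, -, hx1⟩ := (Subgroup.bot_or_exists_ne_one (⊤ : Subgroup G)).resolve_left hk
    exact hsmall ⟨x, fun Z hxZ h => hx1 (mem_bot.1 (h ▸ hxZ))⟩
  | 1, hk, _, hsmall =>
    by_contra hcon
    refine hk (le_bot_iff.1 ((closure_le _).2 fun x hx => mem_bot.2 ?_))
    by_contra hx1
    exact hcon (hsmall ⟨x, fun Z hxZ h => hx1 (mem_bot.1 (h ▸ mem_gen hxZ hx.2))⟩)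
  | j + 2, hk, hmin, _ =>
    set R := res p (j + 1) (⊤ : Subgroup G) with hR
    set N := res p (j + 2) (⊤ : Subgroup G) with hN
    haveI hRn : R.Normal := res_normal _ _
    haveI hNn : N.Normal := res_normal _ _
    set b := par j with hb
    have hgR : gen p b R = R := gen_gen _ _
    have hNR : N = gen p (!b) R := by rw [hb, ← par_succ]; rfl
    by_cases hex : ∃ N₀ : Subgroup G, N₀.Normal ∧ N₀ ≠ ⊥ ∧ ¬ N ≤ N₀
    · obtain ⟨N₀, hN₀, hne, hnle⟩ := hex
      have hi : res p (j + 2) (⊤ : Subgroup (G ⧸ N₀)) ≠ ⊥ := by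
        rw [himg, ne_eq, Subgroup.map_eq_bot_iff, QuotientGroup.ker_mk']
        exact hnle
      obtain ⟨x, y, hxy⟩ := quot N₀ hne (j + 2) hi fun M hM _ => (hmin M hM).trans_le bot_le
      refine ⟨x, y, by_contra fun hne' => hnle ?_⟩
      have h := hmin _ hne'
      have h1 : (closure ({x, y} : Set G)).map (QuotientGroup.mk' N₀) = ⊤ := by
        rw [← map_top_of_surjective _ (QuotientGroup.mk'_surjective N₀), ← hxy, Subgroup.map_sup,
          (Subgroup.map_eq_bot_iff N₀).2 (by rw [QuotientGroup.ker_mk']), sup_bot_eq]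
      have h2 := res_map (p := p) (j + 2) (closure ({x, y} : Set G)) (QuotientGroup.mk' N₀)
      rw [h1, himg, h, Subgroup.map_bot, Subgroup.map_eq_bot_iff, QuotientGroup.ker_mk'] at h2
      exact h2
    push Not at hex
    -- `N` is the only minimal normal subgroup
    have hmN : ∀ M : Subgroup G, M.Normal → M ≤ N → M = ⊥ ∨ M = N := fun M hM hle =>
      or_iff_not_imp_left.2 fun h => le_antisymm hle (hex M hM h)
    have hNb : IsB p (!b) N := by
      have hkey : ∀ c : Bool, IsB p c N → IsB p (!b) N := by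
        intro c hc
        by_cases he : c = !b
        · exact he ▸ hc
        · refine absurd ?_ hk
          rw [show N = gen p (!b) N by rw [hNR, gen_gen]]
          refine gen_eq_bot_of_isB (b := !b) ?_
          rw [Bool.not_not, ← (show ∀ x y : Bool, x ≠ !y → x = y by decide) c b he]
          exact hc
      by_cases hc : Cfsg.pCore p G = ⊥
      · refine hkey false (isB_mono (isB_of_coprime Grp.pPrimeCore_coprime)
          (hex _ Grp.pPrimeCore_isNormal fun h => hk ?_))
        exact le_bot_iff.1 (le_top.trans (Grp.isPSolvable_eq_top_of_cores hsol hc h).le)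
      · exact hkey true (isB_mono (isB_iff_pGroup.2 Grp.pCore_isPGroup) (hex _ Grp.pCore_isNormal hc))
    have hNle : N ≤ R := hNR ▸ gen_le _ _
    have L : Layer p b N R := Layer.mk' hRn hNle hNb (by
      have h : gen p (!b) (R.map (QuotientGroup.mk' N)) = ⊥ := by
        rw [gen_map, ← hNR, Subgroup.map_eq_bot_iff, QuotientGroup.ker_mk']
      have := isB_of_gen_eq_bot h
      rwa [Bool.not_not] at this)
    obtain ⟨Q, hQ, hQR, hRQ⟩ := L.exists_complement
    have hfaith : ¬ ∀ x ∈ R, ∀ n ∈ N, Commute x n := fun hc => hk (le_bot_iff.1 (by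
      have h1 : R ≤ Q := hgR ▸ L.gen_le hQ hRQ le_rfl hc
      rw [← isB_disjoint hQ hNb]
      exact le_inf (hNle.trans h1) le_rfl))
    have hres : ∀ M : Subgroup G, M ≠ ⊤ → IsB p b (res p (j + 1) M) := fun M hM => by
      have h : gen p (!b) (res p (j + 1) M) = ⊥ := by rw [hb, ← par_succ]; exact hmin M hM
      have := isB_of_gen_eq_bot h
      rwa [Bool.not_not] at this
    have hcommM : ∀ (M S : Subgroup G), M ≠ ⊤ → S ≤ N → S ≤ M →
        (∀ g ∈ M, ∀ s ∈ S, g * s * g⁻¹ ∈ S) →
        ∀ x ∈ res p (j + 1) M, ∀ s ∈ S, Commute x s := by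
      intro M S hM hSN hSM hnorm x hx s hs
      refine commute_of_disjoint (le_bot_iff.1 ((inf_le_inf_left _ hSN).trans
        (isB_disjoint (hres M hM) hNb).le)) (fun c hc y hy => normalizes_res _ ?_ y hy)
        (fun y hy c hc => hnorm y (res_le _ _ hy) c hc) hx hs
      exact fun z hz => M.mul_mem (M.mul_mem (hSM hc) hz) (M.inv_mem (hSM hc))
    have hcomm : IsMulCommutative N := by
      cases hbv : b with
      | false =>
        rw [hbv] at hNb
        exact comm_of_pGroup (isB_iff_pGroup.1 hNb) hmN
      | true =>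
        by_contra hnc
        refine hfaith fun r hr n hn' => ?_
        set C := N ⊓ centralizer (Q : Set G) with hC
        suffices hall : Nat.card N ∣ Nat.card C by
          have hNC : N ≤ C := (eq_of_le_of_card_ge inf_le_left (Nat.le_of_dvd Nat.card_pos hall)).ge
          have hr' := hRQ hr
          rw [← SetLike.mem_coe, mul_normal Q N] at hr'
          obtain ⟨q, hq, m, hm, rfl⟩ := Set.mem_mul.1 hr'
          refine absurd ?_ hnc
          -- then `R = Q`
          have hRQ' : R ≤ Q := hgR ▸ (closure_le _).2 (by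
            rintro x ⟨hx, hxb⟩
            have hx' := hRQ hx
            rw [← SetLike.mem_coe, mul_normal Q N] at hx'
            obtain ⟨q', hq', m', hm', rfl⟩ := Set.mem_mul.1 hx'
            have hqm : Commute q' m' := mem_centralizer_iff.1 (hNC hm').2 q' hq'
            have : m' = 1 := by
              refine el_both (b := b) ?_ (hNb m' hm')
              rw [show m' = q'⁻¹ * (q' * m') by group]
              exact el_mul ((Commute.refl q').inv_left.mul_right hqm.inv_left) (el_inv (hQ q' hq')) hxb
            simpa [this] using hq')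
          exact absurd (le_bot_iff.1 ((le_inf (hNle.trans hRQ') le_rfl).trans (isB_disjoint hQ hNb).le)) hk
        refine (Nat.dvd_iff_prime_pow_dvd_dvd _ _).2 fun q i hq hd => ?_
        haveI := Fact.mk hq
        obtain ⟨S⟩ : Nonempty (Sylow q N) := inferInstance
        set S' := (S : Subgroup N).map N.subtype with hS'
        have hSdvd : q ^ i ∣ Nat.card S' := by
          rw [card_map_of_injective N.subtype_injective, S.card_eq_multiplicity]
          exact pow_dvd_pow q ((hq.pow_dvd_iff_le_factorization Nat.card_pos.ne').1 hd)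
        set M := normalizer (S' : Set G) with hMdef
        have hMN : M ⊔ N = ⊤ := Sylow.normalizer_sup_eq_top S
        rcases eq_or_ne M ⊤ with hMt | hMt
        · rcases hmN S' (normalizer_eq_top_iff.1 hMt) (map_subtype_le _) with h | h
          · rw [h, card_bot] at hSdvd
            exact hSdvd.trans (one_dvd _)
          · have hq' : IsPGroup q N := by rw [← h]; exact S.isPGroup'.map N.subtype
            exact absurd (comm_of_pGroup hq' hmN) hnc
        set Q' := res p (j + 1) M with hQ'
        have hRQ' : R ≤ Q' ⊔ N := by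
          have h1 : M.map (QuotientGroup.mk' N) = ⊤ := by
            rw [← map_top_of_surjective _ (QuotientGroup.mk'_surjective N), ← hMN, Subgroup.map_sup,
              (Subgroup.map_eq_bot_iff N).2 (by rw [QuotientGroup.ker_mk']), sup_bot_eq]
          have h2 := res_map (p := p) (j + 1) M (QuotientGroup.mk' N)
          rw [h1, himg] at h2
          refine (le_comap_map (QuotientGroup.mk' N) R).trans ?_
          rw [h2, comap_map_eq, QuotientGroup.ker_mk']
        obtain ⟨m, hm, e⟩ := L.conj (Or.inl hbv) hQ hQR hRQ (hres M hMt) (res_mono _ le_top) hRQ'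
        have hle : S'.map (MulAut.conj m⁻¹).toMonoidHom ≤ C := by
          rintro _ ⟨s, hs, rfl⟩
          refine ⟨hNn.conj_mem s (map_subtype_le _ hs) m⁻¹, mem_centralizer_iff.2 fun c hc => ?_⟩
          have h1 : Commute (m * c * m⁻¹) s := hcommM M S' hMt (map_subtype_le _) le_normalizer
            (fun g hg u hu => (mem_normalizer_iff.1 hg u).1 hu) _ (e.ge ⟨c, hc, rfl⟩) s hs
          have h2 := Commute.map h1 (MulAut.conj m⁻¹).toMonoidHom
          simpa [MulAut.conj_apply, mul_assoc] using h2.eq
        refine hSdvd.trans ?_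
        exact (Nat.card_congr (S'.equivMapOfInjective _ (MulAut.conj m⁻¹).injective).toEquiv).dvd.trans
          (card_dvd_of_le hle)
    have A : AbLayer p b N R := ⟨L, hcomm, hmN, hfaith⟩
    have hi : res p (j + 1) (⊤ : Subgroup (G ⧸ N)) ≠ ⊥ := by
      rw [himg, ne_eq, Subgroup.map_eq_bot_iff, QuotientGroup.ker_mk']
      intro hle
      exact hfaith fun r hr n hn' => A.commN (hle hr) hn'
    obtain ⟨x, y, hxy⟩ := quot N hk (j + 1) hi fun M hM hNM => by
      set C := R ⊓ centralizer (N : Set G)
      haveI : C.Normal := inf_centralizer_normal R N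
      haveI := gen_normal (p := p) b C
      have hCQ : gen p b C ≤ Q := L.gen_le hQ hRQ inf_le_left fun c hc m hm =>
        (mem_centralizer_iff.1 hc.2 m hm).symm
      have hC0 : gen p b C = ⊥ := by
        by_contra h
        exact hk (le_bot_iff.1 ((le_inf ((hex _ inferInstance h).trans hCQ) le_rfl).trans
          (isB_disjoint hQ hNb).le))
      rw [← gen_eq_self (hres M hM)]
      refine le_trans (gen_mono b (le_inf (res_mono _ le_top) ?_)) (hC0.le.trans bot_le)
      intro r hr
      exact mem_centralizer_iff.2 fun m hm => (hcommM M N hM le_rfl hNM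
        (fun g _ s hs => hNn.conj_mem s hs g) r hr m hm).symm
    exact A.exists_two hxy

set_option maxHeartbeats 1000000 in
/-- A group minimal for `w ∉ O_{p',p}` is generated by `w` and one more element. -/
theorem witness_min : ∀ (n : ℕ) (G : Type u) [Group G] [Finite G], Nat.card G = n →
    Cfsg.IsPSolvable p G → ∀ w : G, El p true w → w ∉ upper p (⊤ : Subgroup G) →
    (∀ M : Subgroup G, M ≠ ⊤ → w ∈ M → w ∈ upper p M) →
    ∃ h : G, closure ({w, h} : Set G) = ⊤ := by
  intro n
  induction n using Nat.strong_induction_on with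
  | _ n ih =>
  intro G _ _ hn hsol w hw hwu hmin
  by_cases hex : ∃ (N₀ : Subgroup G) (_ : N₀.Normal), N₀ ≠ ⊥ ∧
      QuotientGroup.mk' N₀ w ∉ upper p (⊤ : Subgroup (G ⧸ N₀))
  · obtain ⟨N₀, _, hne, hnu⟩ := hex
    obtain ⟨h, hh⟩ := ih _ (hn ▸ card_quotient_lt hne) (G ⧸ N₀) rfl
      (Grp.isPSolvable_map hsol _ (QuotientGroup.mk'_surjective N₀)) _ (el_map _ hw) hnu
      fun M hM hwM => by
        rw [← map_comap_eq_self_of_surjective (QuotientGroup.mk'_surjective N₀) M]
        exact map_upper_le _ _ ⟨w, hmin _ (comap_ne_top hM) hwM, rfl⟩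
    obtain ⟨h, rfl⟩ := QuotientGroup.mk'_surjective N₀ h
    refine ⟨h, by_contra fun hne' => hnu ?_⟩
    have h1 := map_upper_le (closure ({w, h} : Set G)) (QuotientGroup.mk' N₀)
      (p := p) ⟨w, hmin _ hne' (Subgroup.subset_closure (by simp)), rfl⟩
    rwa [MonoidHom.map_closure, Set.image_pair, hh] at h1
  push Not at hex
  have htopU : ∀ U : Subgroup G, U.Normal → w ∈ U → IsB p false (gen p false U) → False :=
    fun U hU hwU hc => hwu (le_upper_of_normal le_top (fun g _ x hx => hU.conj_mem x hx g) hc hwU)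
  have hnU : ∀ (N : Subgroup G) [N.Normal],
      ((upper p (⊤ : Subgroup (G ⧸ N))).comap (QuotientGroup.mk' N)).Normal := fun N _ =>
    Normal.comap ⟨fun x hx g => conj_mem_upper (mem_top g) hx⟩ _
  -- no normal p'-subgroups
  have hnc : ∀ V : Subgroup G, V.Normal → IsB p false V → V = ⊥ := by
    intro V hV hVb
    by_contra hne
    refine htopU _ (hnU V) (hex V hV hne) fun x hx => ?_
    obtain ⟨u, v, hu, -, h1, h2, h3⟩ := split (p := p) true x
    have hu1 : u ∈ V := by
      refine (QuotientGroup.eq_one_iff u).1 (el_both (b := true) (el_map (QuotientGroup.mk' V) h1) ?_)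
      have hm : QuotientGroup.mk' V x ∈ gen p false (upper p (⊤ : Subgroup (G ⧸ V))) := by
        refine gen_mono false (map_comap_le (QuotientGroup.mk' V) _) ?_
        rw [gen_map]
        exact ⟨x, hx, rfl⟩
      exact isB_core _ _ (gen_false_upper_le _ (zpowers_le.2 hm (by
        obtain ⟨i, hi⟩ := mem_zpowers_iff.1 hu
        exact mem_zpowers_iff.2 ⟨i, by rw [← map_zpow, hi]; rfl⟩)))
    rw [h3, el_both (b := true) h1 (hVb u hu1), one_mul]
    exact h2
  have hP : Cfsg.pCore p G ≠ ⊥ := fun h => hwu (by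
    have htop := Grp.isPSolvable_eq_top_of_cores hsol h
      (hnc _ Grp.pPrimeCore_isNormal (isB_of_coprime Grp.pPrimeCore_coprime))
    have : w = 1 := mem_bot.1 (htop ▸ mem_top w)
    rw [this]
    exact one_mem _)
  obtain ⟨N, hN, hNne, hNP, hmN⟩ := exists_minimal_normal Grp.pCore_isNormal hP
  have hNb : IsB p true N := isB_mono (isB_iff_pGroup.2 Grp.pCore_isPGroup) hNP
  set π := QuotientGroup.mk' N
  set U := (upper p (⊤ : Subgroup (G ⧸ N))).comap π
  haveI hUn : U.Normal := hnU N
  have hwU : w ∈ U := hex N hN hNne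
  set D := gen p false U ⊔ N with hD
  haveI := gen_normal (p := p) false U
  haveI hDn : D.Normal := Subgroup.sup_normal _ _
  have hDimg : IsB p false (D.map π) := by
    have h1 : D.map π = gen p false (U.map π) := by
      rw [hD, Subgroup.map_sup, (Subgroup.map_eq_bot_iff N).2 (by rw [QuotientGroup.ker_mk']), sup_bot_eq, gen_map]
    rw [h1]
    exact isB_mono (isB_core _) ((gen_mono _ (map_comap_le π _)).trans (gen_false_upper_le _))
  have L : Layer p false N D := Layer.mk' hDn le_sup_right hNb hDimg
  obtain ⟨Q, hQ, hQR, hRQ⟩ := L.exists_complement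
  have hgenUD : gen p false U ≤ gen p false D := by
    conv_lhs => rw [← gen_gen]
    exact gen_mono _ le_sup_left
  have hfaith : ¬ ∀ x ∈ D, ∀ n ∈ N, Commute x n := fun hc =>
    htopU U hUn hwU (isB_mono hQ (hgenUD.trans (L.gen_le hQ hRQ le_rfl hc)))
  set CD := D ⊓ centralizer (N : Set G)
  haveI hCDn : CD.Normal := inf_centralizer_normal D N
  have hCD : gen p false CD = ⊥ := hnc _ (gen_normal false CD) (isB_mono hQ
    (L.gen_le hQ hRQ inf_le_left fun c hc m hm => (mem_centralizer_iff.1 hc.2 m hm).symm))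
  have A : AbLayer p false N D :=
    ⟨L, comm_of_pGroup (isB_iff_pGroup.1 hNb) hmN, hmN, hfaith⟩
  set K := normalClosure ({w} : Set G) with hK
  have hKU : K ≤ U := normalClosure_le_normal (Set.singleton_subset_iff.2 hwU)
  have hwK : w ∈ K := subset_normalClosure (Set.mem_singleton w)
  have hwN : ∃ m ∈ N, ¬ Commute w m := by
    by_contra hc
    push Not at hc
    haveI : (centralizer (N : Set G)).Normal := Subgroup.normal_centralizer
    have hKC : K ≤ centralizer (N : Set G) := normalClosure_le_normal
      (Set.singleton_subset_iff.2 (mem_centralizer_iff.2 fun m hm => (hc m hm).symm))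
    refine htopU K normalClosure_normal hwK (isB_mono (b := false) ?_ ((closure_le _).2 fun x hx =>
      mem_gen (K := CD) ⟨mem_sup_left (mem_gen (hKU hx.1) hx.2), hKC hx.1⟩ hx.2))
    rw [hCD]
    exact fun x hx => (mem_bot.1 hx) ▸ el_one false
  -- some element together with `w` covers the quotient
  have hsup : ∃ d : G, closure ({w, d} : Set G) ⊔ N = ⊤ := by
    by_contra hcon
    push Not at hcon
    have hcen : ∀ d ∈ U, El p false d → Commute (π w) (π d) := by
      intro d hd hdb
      set M := closure ({w, d} : Set G) ⊔ N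
      have hwM : w ∈ M := mem_sup_left (Subgroup.subset_closure (by simp))
      have hdM : d ∈ M := mem_sup_left (Subgroup.subset_closure (by simp))
      have hup := hmin M (hcon d) hwM
      have hdD : d ∈ D := mem_sup_left (mem_gen hd hdb)
      set c := w * d * w⁻¹ * d⁻¹ with hc
      have hcD : c ∈ D := mul_mem (hDn.conj_mem d hdD w) (inv_mem hdD)
      have hcU : c ∈ upper p M := by
        rw [show c = w * (d * w⁻¹ * d⁻¹) by rw [hc]; group]
        exact mul_mem hup (conj_mem_upper hdM (inv_mem hup))
      obtain ⟨u, v, hu, hv, h1, h2, h3⟩ := split (p := p) true c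
      have hvcore : v ∈ core p M := gen_false_upper_le M (mem_gen (zpowers_le.2 hcU hv) h2)
      have hv1 : v = 1 := by
        refine mem_bot.1 (hCD ▸ mem_gen (K := CD) ⟨zpowers_le.2 hcD hv, mem_centralizer_iff.2 fun m hm => ?_⟩ h2)
        exact (commute_of_disjoint (H := core p M) (K := N) (isB_disjoint (b := false) (isB_core M) hNb)
          (fun k hk x hx => Cfsg.Agent.Grp.TwoGen.conj_mem_core (mem_sup_right hk) hx)
          (fun x _ k hk => hN.conj_mem k hk x) hvcore hm).symm
      have hπc : π c = 1 := by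
        refine el_both (b := true) ?_ (hDimg _ ⟨c, hcD, rfl⟩)
        rw [h3, hv1, mul_one]
        exact el_map π h1
      have : π w * π d * (π w)⁻¹ * (π d)⁻¹ = 1 := by
        rw [← hπc, hc]; simp
      exact (mul_inv_eq_iff_eq_mul.1 (mul_inv_eq_one.1 this)).trans (by rfl)
    -- so the closure of `w` centralises `D` modulo `N` and is a p-group there
    set Db := D.map π
    haveI : Db.Normal := Normal.map hDn π (QuotientGroup.mk'_surjective N)
    haveI : (centralizer (Db : Set (G ⧸ N))).Normal := Subgroup.normal_centralizer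
    have hKc : K ≤ (centralizer (Db : Set (G ⧸ N))).comap π := by
      refine normalClosure_le_normal (Set.singleton_subset_iff.2 ?_)
      refine mem_centralizer_iff.2 fun z hz => ?_
      have hle : Db ≤ centralizer ({π w} : Set (G ⧸ N)) := by
        rw [map_le_iff_le_comap]
        refine sup_le ((closure_le _).2 fun d hd =>
          mem_centralizer_singleton_iff.2 (hcen d hd.1 hd.2).symm.eq) fun m hm => ?_
        show π m ∈ centralizer ({π w} : Set (G ⧸ N))
        rw [show π m = 1 from (QuotientGroup.eq_one_iff m).2 hm]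
        exact one_mem _
      exact mem_centralizer_singleton_iff.1 (hle hz)
    haveI hKn : K.Normal := normalClosure_normal
    set Kb := K.map π
    haveI hKbn : Kb.Normal := Normal.map hKn π (QuotientGroup.mk'_surjective N)
    have hfalse : ∀ y ∈ Kb, El p false y → y ∈ Db := by
      rintro _ ⟨x, hx, rfl⟩ hy
      obtain ⟨u, hu, hub, he⟩ := exists_lift π hy
      exact ⟨u, mem_sup_left (mem_gen (hKU (zpowers_le.2 hx hu)) hub), he⟩
    have hcentral : ∀ y ∈ Kb, ∀ z ∈ Kb, El p false z → Commute y z := by
      rintro _ ⟨x, hx, rfl⟩ z hz hzb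
      exact (mem_centralizer_iff.1 (hKc hx) z (hfalse z hz hzb)).symm
    set V := (gen p false Kb).subgroupOf Kb
    have hVc : ∀ v ∈ V, ∀ y : Kb, Commute y v := by
      intro v hv y
      have hle : gen p false Kb ≤ centralizer ({(y : G ⧸ N)} : Set (G ⧸ N)) :=
        (closure_le _).2 fun z hz => mem_centralizer_singleton_iff.2 (hcentral y y.2 z hz.1 hz.2).symm.eq
      exact Subtype.ext (mem_centralizer_singleton_iff.1 (hle hv)).symm
    obtain ⟨S⟩ : Nonempty (Sylow p Kb) := inferInstance
    have hVn : V ≤ normalizer ((S : Subgroup Kb) : Set Kb) := fun v hv => by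
      refine mem_normalizer_iff.2 fun y => ?_
      have : v * y * v⁻¹ = y := by rw [← (hVc v hv y).eq, mul_inv_cancel_right]
      rw [this]
    haveI hSn : (S : Subgroup Kb).Normal := by
      rw [← normalizer_eq_top_iff, eq_top_iff]
      intro y _
      set T := normalizer ((S : Subgroup Kb) : Set Kb)
      haveI hVN : V.Normal := ⟨fun v hv g => by rw [(hVc v hv g).eq, mul_inv_cancel_right]; exact hv⟩
      have hq : IsPGroup p (Kb ⧸ V) := by
        intro z
        obtain ⟨z, rfl⟩ := QuotientGroup.mk'_surjective V z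
        obtain ⟨u, v, hu, hv, h1, h2, h3⟩ := split (p := p) true z
        have hv1 : QuotientGroup.mk' V v = 1 := (QuotientGroup.eq_one_iff v).2
          (mem_gen v.2 (el_map Kb.subtype h2))
        rw [h3, map_mul, hv1, mul_one]
        exact el_map _ h1
      have htop : (S.mapSurjective (QuotientGroup.mk'_surjective V) : Subgroup (Kb ⧸ V)) = ⊤ :=
        ((S.mapSurjective (QuotientGroup.mk'_surjective V)).is_maximal' (hq.to_subgroup ⊤) le_top).symm
      rw [Sylow.coe_mapSurjective] at htop
      have h := congrArg (Subgroup.comap (QuotientGroup.mk' V)) htop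
      rw [comap_map_eq, comap_top, QuotientGroup.ker_mk'] at h
      exact (sup_le le_normalizer hVn) (h.ge (mem_top y))
    have hSall : ∀ y : Kb, El p true y → y ∈ (S : Subgroup Kb) := by
      intro y hy
      have hcy : IsPGroup p (zpowers y) := isB_iff_pGroup.1 fun z hz => by
        obtain ⟨i, rfl⟩ := mem_zpowers_iff.1 hz
        exact el_zpow hy i
      obtain ⟨T, hT⟩ := hcy.exists_le_sylow
      haveI := Sylow.unique_of_normal S inferInstance
      rw [Subsingleton.elim S T]
      exact hT (mem_zpowers y)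
    have hKp : IsB p true Kb := by
      refine isB_mono (b := true) (K := (S : Subgroup Kb).map Kb.subtype)
        (isB_iff_pGroup.2 (S.isPGroup'.map _)) (le_trans (b := normalClosure ({π w} : Set (G ⧸ N))) ?_ ?_)
      · rw [map_le_iff_le_comap]
        exact normalClosure_le_normal (Set.singleton_subset_iff.2 (subset_normalClosure (Set.mem_singleton _)))
      · haveI : (S : Subgroup Kb).Characteristic := S.characteristic_of_normal inferInstance
        exact normalClosure_le_normal (Set.singleton_subset_iff.2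
          ⟨⟨π w, w, hwK, rfl⟩, hSall _ ((el_map_iff Kb.subtype Kb.subtype_injective).1 (el_map π hw)), rfl⟩)
    refine htopU K hKn hwK (isB_mono (b := false) (K := ⊥) (fun x hx => (mem_bot.1 hx) ▸ el_one false)
      ((closure_le _).2 fun x hx => mem_bot.2 ?_))
    have h1 : π x = 1 := el_both (b := true) (hKp _ ⟨x, hx.1, rfl⟩) (el_map π hx.2)
    exact el_both (b := false) hx.2 (hNb x ((QuotientGroup.eq_one_iff x).1 h1))
  obtain ⟨d, hd⟩ := hsup
  obtain ⟨m, -, hm⟩ := A.exists_generate hd hwN
  exact ⟨_, hm⟩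

variable {G : Type u} [Group G] [Finite G]

/-- A two-generated witness for `w ∉ O_{p',p}(H)`. -/
theorem exists_witness {H : Subgroup G} (hH : Cfsg.IsPSolvable p H) {w : G} (hw : El p true w)
    (hwH : w ∈ H) (hwu : w ∉ upper p H) :
    ∃ h ∈ H, w ∉ upper p (closure ({w, h} : Set G)) := by
  obtain ⟨M, ⟨hMH, hwM, hMu⟩, hmin⟩ := Set.exists_min_image
    {M : Subgroup G | M ≤ H ∧ w ∈ M ∧ w ∉ upper p M} (fun M => Nat.card M) (Set.toFinite _)
    ⟨H, le_rfl, hwH, hwu⟩
  have hMs : Cfsg.IsPSolvable p M :=
    Grp.isPSolvable_map (Block.PPartDerived.isPSolvable_subgroup hH (M.subgroupOf H))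
      (subgroupOfEquivOfLe hMH).toMonoidHom (subgroupOfEquivOfLe hMH).surjective
  have htop : (⊤ : Subgroup M).map M.subtype = M := by rw [← MonoidHom.range_eq_map, range_subtype]
  obtain ⟨h, hh⟩ := witness_min (p := p) _ M rfl hMs ⟨w, hwM⟩
    ((el_map_iff M.subtype M.subtype_injective).1 hw)
    (fun h => hMu (htop ▸ (map_upper_eq _ _ M.subtype_injective).ge ⟨_, h, rfl⟩))
    fun X hX hwX => by
      by_contra hnu
      refine hX (map_injective M.subtype_injective (htop.symm ▸ ?_))
      refine eq_of_le_of_card_ge (map_subtype_le X) (hmin _ ⟨(map_subtype_le X).trans hMH,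
        ⟨_, hwX, rfl⟩, fun hu => hnu ?_⟩)
      rw [map_upper_eq _ _ M.subtype_injective] at hu
      obtain ⟨z, hz, e⟩ := hu
      rwa [show z = ⟨w, hwM⟩ from Subtype.ext e] at hz
  refine ⟨h, hMH h.2, ?_⟩
  have e : closure ({w, (h : G)} : Set G) = M := by
    have e := congrArg (Subgroup.map M.subtype) hh
    rw [MonoidHom.map_closure, Set.image_pair, htop] at e
    exact e
  rw [e]
  exact hMu

/-- A two-generated subgroup with a nontrivial residual. -/
theorem exists_two {H : Subgroup G} (hH : Cfsg.IsPSolvable p H) {k : ℕ} (hk : res p k H ≠ ⊥) :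
    ∃ x y : G, closure ({x, y} : Set G) ≤ H ∧ res p k (closure ({x, y} : Set G)) ≠ ⊥ := by
  obtain ⟨M, ⟨hMH, hMk⟩, hmin⟩ := Set.exists_min_image
    {M : Subgroup G | M ≤ H ∧ res p k M ≠ ⊥} (fun M => Nat.card M) (Set.toFinite _) ⟨H, le_rfl, hk⟩
  have hMs : Cfsg.IsPSolvable p M :=
    Grp.isPSolvable_map (Block.PPartDerived.isPSolvable_subgroup hH (M.subgroupOf H))
      (subgroupOfEquivOfLe hMH).toMonoidHom (subgroupOfEquivOfLe hMH).surjective
  have htop : (⊤ : Subgroup M).map M.subtype = M := by rw [← MonoidHom.range_eq_map, range_subtype]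
  obtain ⟨x, y, hxy⟩ := two_gen (p := p) _ M rfl hMs k (fun h => hMk (by
    rw [← htop, res_map, h, Subgroup.map_bot])) fun X hX => by
      by_contra hne
      refine hX (map_injective M.subtype_injective (htop.symm ▸ ?_))
      refine eq_of_le_of_card_ge (map_subtype_le X) (hmin _ ⟨(map_subtype_le X).trans hMH, ?_⟩)
      rwa [res_map, ne_eq, map_eq_bot_iff_of_injective _ M.subtype_injective]
  have e : closure ({(x : G), (y : G)} : Set G) = M := by
    have e := congrArg (Subgroup.map M.subtype) hxy
    rw [MonoidHom.map_closure, Set.image_pair, htop] at e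
    exact e
  exact ⟨x, y, by rw [e]; exact hMH, by rw [e]; exact hMk⟩

end Cfsg.Agent.Fus.Powell
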